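import Cfsg.Agent.CGM.Rep

/-!
Coset-cover certificates in a black-box model `IsRep mul one R` of a group `G`:
one level of a stabiliser chain (`Lev`), giving upper bounds / exact values for the order of the
group generated by explicit elements, maximality of a subgroup, enumeration of the elements;
and abstract simplicity criteria that fit these certificates.
-/

set_option autoImplicit false

namespace CL
namespace CGM

/-! ### Loops and tables -/

/-- `f i = true` for all `i < n` (recursion depth `n`) -/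
noncomputable def allN (f : ℕ → Bool) (n : ℕ) : Bool :=
  Nat.beq (Nat.rec (motive := fun _ => ℕ) 0
    (fun i ih => Nat.add (Bool.rec (motive := fun _ => ℕ) 1 0 (f i)) ih) n) 0

theorem allN_spec {f : ℕ → Bool} {n : ℕ} (h : allN f n = true) : ∀ i < n, f i = true := by
  have h' := Nat.eq_of_beq_eq_true h
  clear h
  induction n with
  | zero => intro i hi; omega
  | succ n ih =>
    have e : (Bool.rec (motive := fun _ => ℕ) 1 0 (f n) : ℕ) + Nat.rec (motive := fun _ => ℕ) 0
      (fun i ih => Nat.add (Bool.rec (motive := fun _ => ℕ) 1 0 (f i)) ih) n = 0 := h'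
    obtain ⟨e1, e2⟩ := Nat.add_eq_zero_iff.1 e
    intro i hi
    rcases Nat.lt_succ_iff_lt_or_eq.1 hi with hi | rfl
    · exact ih e2 i hi
    · cases hf : f i
      · rw [hf] at e1; exact absurd e1 (by simp)
      · rfl

/-- `f j = true` for all `j` with `64 * lo ≤ j < 64 * (lo + nb)` and `j < N` -/
noncomputable def allB (f : ℕ → Bool) (N lo nb : ℕ) : Bool :=
  allN (fun a => allN (fun b => force (Nat.add (Nat.mul 64 (Nat.add lo a)) b)
    (fun j => Bool.rec (motive := fun _ => Bool) (f j) true (Nat.ble N j))) 64) nb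

theorem allB_spec {f : ℕ → Bool} {N lo nb : ℕ} (h : allB f N lo nb = true) :
    ∀ j < N, 64 * lo ≤ j → j < 64 * (lo + nb) → f j = true := by
  intro j hj h1 h2
  have h3 := allN_spec (allN_spec h (j / 64 - lo) (by omega)) (j % 64) (Nat.mod_lt _ (by norm_num))
  rw [force_eq] at h3
  have e : Nat.add (Nat.mul 64 (Nat.add lo (j / 64 - lo))) (j % 64) = j := by
    show 64 * (lo + (j / 64 - lo)) + j % 64 = j
    omega
  rw [e] at h3
  have h4 : Nat.ble N j = false := by
    cases h5 : Nat.ble N j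
    · rfl
    · exact absurd (Nat.le_of_ble_eq_true h5) (by omega)
  rw [h4] at h3
  exact h3

/-- `AllUpTo f N k`: `f j = true` for all `j < N` below `64 * k`; used to glue block checks -/
def AllUpTo (f : ℕ → Bool) (N k : ℕ) : Prop := ∀ j < N, j < 64 * k → f j = true

theorem AllUpTo.zero (f : ℕ → Bool) (N : ℕ) : AllUpTo f N 0 := fun _ _ h => absurd h (by omega)

theorem AllUpTo.add {f : ℕ → Bool} {N k nb : ℕ} (h : AllUpTo f N k) (h' : allB f N k nb = true) :
    AllUpTo f N (k + nb) := by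
  intro j hj h1
  by_cases h2 : j < 64 * k
  · exact h j hj h2
  · exact allB_spec h' j hj (by omega) h1

theorem AllUpTo.all {f : ℕ → Bool} {N k : ℕ} (h : AllUpTo f N k) (hk : N ≤ 64 * k) :
    ∀ j < N, f j = true := fun j hj => h j hj (by omega)

theorem allB_all {f : ℕ → Bool} {N nb : ℕ} (h : allB f N 0 nb = true) (hk : N ≤ 64 * nb) :
    ∀ j < N, f j = true := fun j hj => allB_spec h j hj (by omega) (by omega)

/-- binary trees of numbers (chunks of tables) -/
inductive BT : Type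
  | leaf (x : ℕ) : BT
  | node (l r : BT) : BT

/-- the leaf reached by reading the binary digits of the index from the lowest one -/
noncomputable def BT.get (t : BT) : ℕ → ℕ :=
  BT.rec (motive := fun _ => ℕ → ℕ) (fun x _ => x) (fun _ _ il ir i =>
    Bool.rec (motive := fun _ => ℕ) (ir (Nat.div i 2)) (il (Nat.div i 2))
      (Nat.beq (Nat.mod i 2) 0)) t

/-- entry `j` of a table with `B` entries of `S` bits per chunk -/
noncomputable def tab (t : BT) (B S : ℕ) (j : ℕ) : ℕ :=
  force (Nat.div j B) (fun hi => Nat.land (Nat.shiftRight (t.get hi) (Nat.mul S (Nat.mod j B)))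
    (Nat.sub (Nat.pow 2 S) 1))

/-- boolean conjunction evaluated lazily -/
noncomputable def band (a b : Bool) : Bool := Bool.rec (motive := fun _ => Bool) false b a

/-- boolean disjunction evaluated lazily -/
noncomputable def bor (a b : Bool) : Bool := Bool.rec (motive := fun _ => Bool) b true a

@[simp] theorem band_eq_true {a b : Bool} : band a b = true ↔ a = true ∧ b = true := by
  cases a <;> cases b <;> simp [band]

@[simp] theorem bor_eq_true {a b : Bool} : bor a b = true ↔ a = true ∨ b = true := by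
  cases a <;> cases b <;> simp [bor]

theorem lt_of_ble_succ {a b : ℕ} (h : Nat.ble (Nat.succ a) b = true) : a < b :=
  Nat.le_of_ble_eq_true h

/-! ### One level of a chain -/

/-- the subgroup generated by `f 0, …, f (n - 1)` -/
def gen {G : Type*} [Group G] (f : ℕ → G) (n : ℕ) : Subgroup G :=
  Subgroup.closure {g | ∃ i < n, f i = g}

theorem mem_gen {G : Type*} [Group G] (f : ℕ → G) {n i : ℕ} (hi : i < n) : f i ∈ gen f n :=
  Subgroup.subset_closure ⟨i, hi, rfl⟩

theorem gen_le {G : Type*} [Group G] {f : ℕ → G} {n : ℕ} {K : Subgroup G} :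
    gen f n ≤ K ↔ ∀ i < n, f i ∈ K := by
  rw [gen, Subgroup.closure_le]
  exact ⟨fun h i hi => h ⟨i, hi, rfl⟩, fun h _ ⟨i, hi, e⟩ => e ▸ h i hi⟩

theorem gen_mono {G : Type*} [Group G] (f : ℕ → G) {m n : ℕ} (h : m ≤ n) : gen f m ≤ gen f n :=
  gen_le.2 fun _ hi => mem_gen f (lt_of_lt_of_le hi h)

/-- data of one level: `N` cosets with representatives coded by `T`, `ns` generators coded by `gs`,
a Schreier tree `par` and for each (coset, generator) the index `cert` of the product -/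
structure Lev where
  N : ℕ
  ns : ℕ
  gs : ℕ → ℕ
  T : ℕ → ℕ
  par : ℕ → ℕ
  cert : ℕ → ℕ

namespace Lev
variable (L : Lev) (mul : ℕ → ℕ → ℕ) (one : ℕ) (hel : ℕ → ℕ)

/-- enumeration of the bigger group from an enumeration `hel` of the subgroup -/
def kel (x : ℕ) : ℕ := mul (hel (Nat.div x L.N)) (L.T (Nat.mod x L.N))

/-- the code of `T (q / ns) * gs (q % ns)` -/
def edge (q : ℕ) : ℕ := mul (L.T (Nat.div q L.ns)) (L.gs (Nat.mod q L.ns))

/-- check of the Schreier tree at `j` -/
noncomputable def checkTree (j : ℕ) : Bool :=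
  Bool.rec (motive := fun _ => Bool)
    (band (Nat.ble (Nat.succ (Nat.div (L.par j) L.ns)) j) (Nat.beq (L.T j) (L.edge mul (L.par j))))
    (Nat.beq (L.T 0) one) (Nat.beq j 0)

/-- check that the product of a representative and a generator is the announced element -/
def checkCov (q : ℕ) : Bool := Nat.beq (L.edge mul q) (L.kel mul hel (L.cert q))

/-- the same check at the bottom level (trivial subgroup) -/
def checkCov0 (q : ℕ) : Bool :=
  Nat.beq (L.edge mul q) (L.T (Nat.mod (L.cert q) L.N))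

end Lev

variable {G : Type*} [Group G] {mul : ℕ → ℕ → ℕ} {one : ℕ} {R : ℕ → G → Prop}

/-- `t` is a family of `N` elements of `K`, coded by `T`, whose right cosets `H * t j` cover `K` -/
structure Cover (R : ℕ → G → Prop) (L : Lev) (f : ℕ → G) (H : Subgroup G) (t : ℕ → G) : Prop where
  pos : 0 < L.N
  nspos : 0 < L.ns
  rep : ∀ j < L.N, R (L.T j) (t j)
  mem : ∀ j < L.N, t j ∈ gen f L.ns
  zero : t 0 = 1
  tree : ∀ j < L.N, j ≠ 0 → L.par j / L.ns < j ∧ t j = t (L.par j / L.ns) * f (L.par j % L.ns)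
  cov : ∀ g ∈ gen f L.ns, ∃ j < L.N, g * (t j)⁻¹ ∈ H

theorem Lev.exists_tree (h : IsRep mul one R) (L : Lev) {f : ℕ → G}
    (hgs : ∀ i < L.ns, R (L.gs i) (f i)) (hns : 0 < L.ns)
    (htree : ∀ j < L.N, L.checkTree mul one j = true) :
    ∃ t : ℕ → G, t 0 = 1 ∧ (∀ j < L.N, R (L.T j) (t j) ∧ t j ∈ gen f L.ns) ∧
      ∀ j < L.N, j ≠ 0 → L.par j / L.ns < j ∧ t j = t (L.par j / L.ns) * f (L.par j % L.ns) := by
  have h0 : 0 < L.N → L.T 0 = one := fun hN => Nat.eq_of_beq_eq_true (htree 0 hN)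
  have h1 : ∀ j < L.N, j ≠ 0 → L.par j / L.ns < j ∧
      L.T j = mul (L.T (L.par j / L.ns)) (L.gs (L.par j % L.ns)) := by
    intro j hj hj0
    have h2 := htree j hj
    unfold Lev.checkTree at h2
    have : Nat.beq j 0 = false := by
      cases h3 : Nat.beq j 0
      · rfl
      · exact absurd (Nat.eq_of_beq_eq_true h3) hj0
    rw [this] at h2
    obtain ⟨h3, h4⟩ := band_eq_true.1 h2
    exact ⟨lt_of_ble_succ h3, Nat.eq_of_beq_eq_true h4⟩
  have h2 : ∀ j, j < L.N → ∃ g, R (L.T j) g ∧ g ∈ gen f L.ns := by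
    intro j
    induction j using Nat.strong_induction_on with
    | _ j ih =>
      intro hj
      by_cases hj0 : j = 0
      · subst hj0
        exact ⟨1, by rw [h0 hj]; exact h.one, one_mem _⟩
      · obtain ⟨h3, h4⟩ := h1 j hj hj0
        obtain ⟨g, hg, hg'⟩ := ih _ h3 (by omega)
        have h5 := Nat.mod_lt (L.par j) hns
        exact ⟨g * f (L.par j % L.ns), by rw [h4]; exact h.mul hg (hgs _ h5),
          mul_mem hg' (mem_gen f h5)⟩
  choose t ht using h2
  refine ⟨fun j => if hj : j < L.N then t j hj else 1, ?_, ?_, ?_⟩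
  · show (if hj : 0 < L.N then t 0 hj else 1) = 1
    split_ifs with hN
    · exact h.uniq (ht 0 hN).1 (by rw [h0 hN]; exact h.one)
    · rfl
  · intro j hj
    simp only [hj, dif_pos]
    exact ht j hj
  · intro j hj hj0
    obtain ⟨h3, h4⟩ := h1 j hj hj0
    refine ⟨h3, ?_⟩
    have h5 : L.par j / L.ns < L.N := by omega
    simp only [hj, h5, dif_pos]
    refine h.uniq (ht j hj).1 ?_
    rw [h4]
    exact h.mul (ht _ h5).1 (hgs _ (Nat.mod_lt _ hns))

theorem cover_of_step {f t : ℕ → G} {N ns : ℕ} {H : Subgroup G} (hN : 0 < N) (h0 : t 0 = 1)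
    (hfin : ∀ i < ns, IsOfFinOrder (f i))
    (hstep : ∀ j < N, ∀ i < ns, ∃ j' < N, t j * f i * (t j')⁻¹ ∈ H) :
    ∀ g ∈ gen f ns, ∃ j < N, g * (t j)⁻¹ ∈ H := by
  intro g hg
  have hg' : g ∈ Submonoid.closure {g | ∃ i < ns, f i = g} := by
    rw [← Subgroup.closure_toSubmonoid_of_isOfFinOrder]
    · exact hg
    · rintro _ ⟨i, hi, rfl⟩; exact hfin i hi
  clear hg
  induction hg' using Submonoid.closure_induction_right with
  | one => exact ⟨0, hN, by rw [h0]; simp⟩
  | mul_right x _ y hy ih =>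
    obtain ⟨i, hi, rfl⟩ := hy
    obtain ⟨j, hj, h1⟩ := ih
    obtain ⟨j', hj', h2⟩ := hstep j hj i hi
    refine ⟨j', hj', ?_⟩
    have : x * f i * (t j')⁻¹ = (x * (t j)⁻¹) * (t j * f i * (t j')⁻¹) := by group
    rw [this]; exact H.mul_mem h1 h2

theorem Lev.edge_rep (h : IsRep mul one R) (L : Lev) {f t : ℕ → G}
    (hgs : ∀ i < L.ns, R (L.gs i) (f i)) (ht : ∀ j < L.N, R (L.T j) (t j)) {j i : ℕ}
    (hj : j < L.N) (hi : i < L.ns) :
    j * L.ns + i < L.N * L.ns ∧ R (L.edge mul (j * L.ns + i)) (t j * f i) := by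
  have e1 : (j * L.ns + i) / L.ns = j := by
    rw [mul_comm, Nat.mul_add_div (by omega), Nat.div_eq_of_lt hi, add_zero]
  have e2 : (j * L.ns + i) % L.ns = i := by
    rw [mul_comm, Nat.mul_add_mod_self_left, Nat.mod_eq_of_lt hi]
  refine ⟨?_, ?_⟩
  · have := Nat.mul_le_mul_right L.ns (show j + 1 ≤ L.N from hj)
    rw [add_mul] at this; omega
  · show R (mul (L.T ((j * L.ns + i) / L.ns)) (L.gs ((j * L.ns + i) % L.ns))) _
    rw [e1, e2]
    exact h.mul (ht j hj) (hgs i hi)

/-- soundness of a level above a subgroup `H` with an enumeration `hel` of (some) elements -/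
theorem Lev.cover (h : IsRep mul one R) (L : Lev) {f : ℕ → G}
    (hgs : ∀ i < L.ns, R (L.gs i) (f i)) (hfin : ∀ i < L.ns, IsOfFinOrder (f i))
    {H : Subgroup G} {hel : ℕ → ℕ} (hhel : ∀ x, ∃ y ∈ H, R (hel x) y)
    (hN : 0 < L.N) (hns : 0 < L.ns) (htree : ∀ j < L.N, L.checkTree mul one j = true)
    (hcov : ∀ q < L.N * L.ns, L.checkCov mul hel q = true) : ∃ t, Cover R L f H t := by
  obtain ⟨t, h0, h1, h2⟩ := L.exists_tree h hgs hns htree
  refine ⟨t, hN, hns, fun j hj => (h1 j hj).1, fun j hj => (h1 j hj).2, h0, h2,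
    cover_of_step hN h0 hfin ?_⟩
  intro j hj i hi
  obtain ⟨h3, h4⟩ := L.edge_rep h hgs (fun j hj => (h1 j hj).1) hj hi
  obtain ⟨y, hy, hy'⟩ := hhel (L.cert (j * L.ns + i) / L.N)
  have h5 := Nat.mod_lt (L.cert (j * L.ns + i)) hN
  have h6 := h.eq_of_beq h4 (h.mul hy' (h1 _ h5).1) (hcov _ h3)
  exact ⟨_, h5, by rw [h6, mul_inv_cancel_right]; exact hy⟩

/-- soundness of the bottom level -/
theorem Lev.cover0 (h : IsRep mul one R) (L : Lev) {f : ℕ → G}
    (hgs : ∀ i < L.ns, R (L.gs i) (f i)) (hfin : ∀ i < L.ns, IsOfFinOrder (f i))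
    (hN : 0 < L.N) (hns : 0 < L.ns) (htree : ∀ j < L.N, L.checkTree mul one j = true)
    (hcov : ∀ q < L.N * L.ns, L.checkCov0 mul q = true) : ∃ t, Cover R L f ⊥ t := by
  obtain ⟨t, h0, h1, h2⟩ := L.exists_tree h hgs hns htree
  refine ⟨t, hN, hns, fun j hj => (h1 j hj).1, fun j hj => (h1 j hj).2, h0, h2,
    cover_of_step hN h0 hfin ?_⟩
  intro j hj i hi
  obtain ⟨h3, h4⟩ := L.edge_rep h hgs (fun j hj => (h1 j hj).1) hj hi
  have h5 := Nat.mod_lt (L.cert (j * L.ns + i)) hN
  have h6 := h.eq_of_beq h4 (h1 _ h5).1 (hcov _ h3)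
  exact ⟨_, h5, by rw [h6, mul_inv_cancel]; exact one_mem _⟩

namespace Cover
variable {L : Lev} {f t : ℕ → G} {H : Subgroup G}

/-- the enumeration `kel` produces elements of the generated group -/
theorem kel_mem (c : Cover R L f H t) (h : IsRep mul one R) (hHK : H ≤ gen f L.ns) {hel : ℕ → ℕ}
    (hhel : ∀ x, ∃ y ∈ H, R (hel x) y) (x : ℕ) : ∃ y ∈ gen f L.ns, R (L.kel mul hel x) y := by
  obtain ⟨y, hy, hy'⟩ := hhel (x / L.N)
  have h5 := Nat.mod_lt x c.pos
  exact ⟨y * t (x % L.N), mul_mem (hHK hy) (c.mem _ h5), h.mul hy' (c.rep _ h5)⟩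

/-- bottom level: `fun x => T (x % N)` enumerates elements of the generated group -/
theorem kel0_mem (c : Cover R L f H t) (x : ℕ) :
    ∃ y ∈ gen f L.ns, R (L.T (Nat.mod x L.N)) y :=
  ⟨_, c.mem _ (Nat.mod_lt x c.pos), c.rep _ (Nat.mod_lt x c.pos)⟩

/-- the enumeration `kel` is exhaustive if `hel` is -/
theorem kel_surj (c : Cover R L f H t) (h : IsRep mul one R) {hel : ℕ → ℕ} {M : ℕ}
    (hhel : ∀ y ∈ H, ∃ x < M, R (hel x) y) :
    ∀ y ∈ gen f L.ns, ∃ x < M * L.N, R (L.kel mul hel x) y := by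
  intro y hy
  obtain ⟨j, hj, h1⟩ := c.cov y hy
  obtain ⟨x, hx, h2⟩ := hhel _ h1
  refine ⟨x * L.N + j, ?_, ?_⟩
  · have := Nat.mul_le_mul_right L.N (show x + 1 ≤ M from hx)
    rw [add_mul] at this; omega
  · have e1 : (x * L.N + j) / L.N = x := by
      rw [mul_comm, Nat.mul_add_div c.pos, Nat.div_eq_of_lt hj, add_zero]
    have e2 : (x * L.N + j) % L.N = j := by
      rw [mul_comm, Nat.mul_add_mod_self_left, Nat.mod_eq_of_lt hj]
    show R (mul (hel ((x * L.N + j) / L.N)) (L.T ((x * L.N + j) % L.N))) _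
    rw [e1, e2]
    have := h.mul h2 (c.rep j hj)
    rwa [inv_mul_cancel_right] at this

theorem kel0_surj (c : Cover R L f ⊥ t) :
    ∀ y ∈ gen f L.ns, ∃ x < L.N, R (L.T (Nat.mod x L.N)) y := by
  intro y hy
  obtain ⟨j, hj, h1⟩ := c.cov y hy
  refine ⟨j, hj, ?_⟩
  show R (L.T (j % L.N)) y
  rw [Nat.mod_eq_of_lt hj, mul_inv_eq_one.1 (Subgroup.mem_bot.1 h1)]
  exact c.rep j hj

theorem exists_inj (c : Cover R L f H t) :
    ∃ φ : gen f L.ns → Fin L.N × H, Function.Injective φ ∧
      ∀ g : gen f L.ns, (g : G) = (φ g).2 * t (φ g).1 := by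
  have h1 : ∀ g : gen f L.ns, ∃ p : Fin L.N × H, (g : G) = p.2 * t p.1 := by
    intro g
    obtain ⟨j, hj, h1⟩ := c.cov g g.2
    exact ⟨(⟨j, hj⟩, ⟨_, h1⟩), by simp⟩
  choose φ hφ using h1
  refine ⟨φ, fun a b hab => Subtype.ext ?_, hφ⟩
  rw [hφ a, hφ b, hab]

theorem finite (c : Cover R L f H t) [Finite H] : Finite (gen f L.ns) := by
  obtain ⟨φ, hφ, -⟩ := c.exists_inj
  exact Finite.of_injective φ hφ

theorem card_le (c : Cover R L f H t) [Finite H] : Nat.card (gen f L.ns) ≤ L.N * Nat.card H := by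
  obtain ⟨φ, hφ, -⟩ := c.exists_inj
  have := Nat.card_le_card_of_injective φ hφ
  simpa using this

theorem card_eq (c : Cover R L f H t) (hHK : H ≤ gen f L.ns)
    (hd : ∀ i < L.N, ∀ j < L.N, t i * (t j)⁻¹ ∈ H → i = j) :
    Nat.card (gen f L.ns) = L.N * Nat.card H := by
  obtain ⟨φ, hφ, hφ'⟩ := c.exists_inj
  have hs : Function.Surjective φ := by
    rintro ⟨j, y⟩
    refine ⟨⟨y * t j, mul_mem (hHK y.2) (c.mem j j.2)⟩, ?_⟩
    set g : gen f L.ns := ⟨y * t j, mul_mem (hHK y.2) (c.mem j j.2)⟩ with hg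
    have h1 : (y : G) * t j = (φ g).2 * t (φ g).1 := hφ' g
    have h2 : t j * (t (φ g).1)⁻¹ = (y : G)⁻¹ * (φ g).2 := by
      rw [eq_inv_mul_iff_mul_eq, ← mul_assoc, h1, mul_inv_cancel_right]
    have h3 : (j : ℕ) = (φ g).1 :=
      hd j j.2 _ (φ g).1.2 (by rw [h2]; exact mul_mem (inv_mem y.2) (φ g).2.2)
    rw [← h3] at h1
    exact Prod.ext (Fin.ext h3.symm) (Subtype.ext (mul_right_cancel h1).symm)
  have := Nat.card_eq_of_bijective φ ⟨hφ, hs⟩
  simpa using this

end Cover

/-- check that the keys `key (T (σ i))`, `i < N`, are strictly increasing -/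
noncomputable def Lev.checkKey (L : Lev) (key σ : ℕ → ℕ) (i : ℕ) : Bool :=
  band (Nat.ble (Nat.succ (σ i)) L.N)
    (bor (Nat.ble L.N (Nat.succ i))
      (Nat.ble (Nat.succ (force (σ i) (fun a => key (L.T a))))
        (force (σ (Nat.succ i)) (fun a => key (L.T a)))))

theorem Lev.key_inj (L : Lev) {key σ : ℕ → ℕ} (hk : ∀ i < L.N, L.checkKey key σ i = true) :
    ∀ i < L.N, ∀ j < L.N, key (L.T i) = key (L.T j) → i = j := by
  have h1 : ∀ i < L.N, σ i < L.N := fun i hi => lt_of_ble_succ (band_eq_true.1 (hk i hi)).1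
  have h2 : ∀ i, i + 1 < L.N → key (L.T (σ i)) < key (L.T (σ (i + 1))) := by
    intro i hi
    rcases bor_eq_true.1 (band_eq_true.1 (hk i (by omega))).2 with h | h
    · exact absurd (Nat.le_of_ble_eq_true h) (by omega)
    · have := lt_of_ble_succ h
      rwa [force_eq, force_eq] at this
  have h3 : StrictMono (fun i : Fin L.N => key (L.T (σ i))) := by
    intro a b hab
    have : ∀ d, (a : ℕ) + d + 1 < L.N → key (L.T (σ a)) < key (L.T (σ (a + d + 1))) := by
      intro d
      induction d with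
      | zero => exact h2 a
      | succ d ih => intro hd; exact lt_trans (ih (by omega)) (h2 _ hd)
    have hb := b.2
    have h4 := this (b - a - 1) (by have : (a : ℕ) < b := hab; omega)
    rwa [show (a : ℕ) + (b - a - 1) + 1 = b by have : (a : ℕ) < b := hab; omega] at h4
  let s : Fin L.N → Fin L.N := fun i => ⟨σ i, h1 i i.2⟩
  have h4 : Function.Injective s := by
    intro a b hab
    apply h3.injective
    show key (L.T (s a)) = key (L.T (s b))
    rw [hab]
  have h5 := Finite.injective_iff_surjective.1 h4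
  intro i hi j hj e
  obtain ⟨a, ha⟩ := h5 ⟨i, hi⟩
  obtain ⟨b, hb⟩ := h5 ⟨j, hj⟩
  have ha' : σ a = i := congrArg Fin.val ha
  have hb' : σ b = j := congrArg Fin.val hb
  have : a = b := h3.injective (by show key (L.T (σ a)) = key (L.T (σ b)); rw [ha', hb', e])
  rw [← ha', ← hb', this]

/-- alternating product `hel x₀ * a * hel x₁ * a * ⋯ * hel xₖ` on codes -/
noncomputable def altC (mul : ℕ → ℕ → ℕ) (hel : ℕ → ℕ) (a : ℕ) (x0 : ℕ) (l : List ℕ) : ℕ :=
  List.rec (motive := fun _ => ℕ → ℕ) (fun x => hel x)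
    (fun y _ ih x => mul (mul (hel x) a) (ih y)) l x0

theorem altC_mem (h : IsRep mul one R) {H M : Subgroup G} (hHM : H ≤ M) {hel : ℕ → ℕ}
    (hhel : ∀ x, ∃ y ∈ H, R (hel x) y) {a : ℕ} {g : G} (ha : R a g) (hg : g ∈ M) (l : List ℕ) :
    ∀ x0, ∃ y ∈ M, R (altC mul hel a x0 l) y := by
  induction l with
  | nil =>
    intro x0
    obtain ⟨y, hy, hy'⟩ := hhel x0
    exact ⟨y, hHM hy, hy'⟩
  | cons y l ih =>
    intro x0
    obtain ⟨u, hu, hu'⟩ := hhel x0
    obtain ⟨v, hv, hv'⟩ := ih y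
    exact ⟨u * g * v, mul_mem (mul_mem (hHM hu) hg) hv, h.mul (h.mul hu' ha) hv'⟩

/-- maximality check at `j`: the last generator is number `nh = ns - 1`, the others lie in `H`;
`rw j = x₀ :: l` expresses the last generator through `H` and `T j` -/
noncomputable def Lev.checkMax (L : Lev) (mul : ℕ → ℕ → ℕ) (hel : ℕ → ℕ) (nh : ℕ)
    (rw : ℕ → List ℕ) (j : ℕ) : Bool :=
  bor (Nat.beq j 0) (bor (Nat.ble (Nat.succ (Nat.mod (L.par j) L.ns)) nh)
    (Nat.beq (altC mul hel (L.T j) (rw j).headI (rw j).tail) (L.gs nh)))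

theorem Cover.maximal {L : Lev} {f t : ℕ → G} {H : Subgroup G} (c : Cover R L f H t)
    (h : IsRep mul one R) {hel : ℕ → ℕ} (hhel : ∀ x, ∃ y ∈ H, R (hel x) y) {nh : ℕ}
    (hnh : L.ns = nh + 1) (hf : ∀ i < nh, f i ∈ H) (hlast : R (L.gs nh) (f nh))
    {rw : ℕ → List ℕ} (hmax : ∀ j < L.N, L.checkMax mul hel nh rw j = true)
    (M : Subgroup G) (hHM : H ≤ M) (hMK : M ≤ gen f L.ns) : M = H ∨ M = gen f L.ns := by
  have key : ∀ j, j < L.N → t j ∈ M → t j ∈ H ∨ f nh ∈ M := by
    intro j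
    induction j using Nat.strong_induction_on with
    | _ j ih =>
      intro hj hM
      by_cases hj0 : j = 0
      · left; rw [hj0, c.zero]; exact one_mem _
      rcases bor_eq_true.1 (hmax j hj) with h1 | h1
      · exact absurd (Nat.eq_of_beq_eq_true h1) hj0
      rcases bor_eq_true.1 h1 with h1 | h1
      · have h2 : L.par j % L.ns < nh := lt_of_ble_succ h1
        obtain ⟨h3, h4⟩ := c.tree j hj hj0
        have h5 : t (L.par j / L.ns) ∈ M := by
          have : t (L.par j / L.ns) = t j * (f (L.par j % L.ns))⁻¹ := by rw [h4]; group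
          rw [this]; exact mul_mem hM (inv_mem (hHM (hf _ h2)))
        rcases ih _ h3 (by omega) h5 with h6 | h6
        · left; rw [h4]; exact mul_mem h6 (hf _ h2)
        · right; exact h6
      · right
        obtain ⟨y, hy, hy'⟩ := altC_mem h hHM hhel (c.rep j hj) hM (rw j).tail (rw j).headI
        rw [← h.eq_of_beq hy' hlast h1]; exact hy
  by_cases hM : f nh ∈ M
  · right
    refine le_antisymm hMK (gen_le.2 fun i hi => ?_)
    rcases Nat.lt_succ_iff_lt_or_eq.1 (hnh ▸ hi) with hi | rfl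
    · exact hHM (hf i hi)
    · exact hM
  · left
    refine le_antisymm (fun g hg => ?_) hHM
    obtain ⟨j, hj, h1⟩ := c.cov g (hMK hg)
    have h2 : t j ∈ M := by
      have : t j = (g * (t j)⁻¹)⁻¹ * g := by group
      rw [this]; exact mul_mem (inv_mem (hHM h1)) hg
    rcases key j hj h2 with h3 | h3
    · have : g = (g * (t j)⁻¹) * t j := by group
      rw [this]; exact mul_mem h1 h3
    · exact absurd h3 hM

/-! ### Simplicity criteria -/

/-- if `q` divides `|G|` exactly once, a normal subgroup of order divisible by `q` contains every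
element of order `q` -/
theorem mem_of_orderOf_eq_prime [Finite G] {q : ℕ} (hq : q.Prime) (hq2 : ¬ q ^ 2 ∣ Nat.card G)
    (N : Subgroup G) [N.Normal] (hN : q ∣ Nat.card N) {y : G} (hy : orderOf y = q) : y ∈ N := by
  rw [← QuotientGroup.eq_one_iff, ← orderOf_eq_one_iff]
  have h1 : orderOf (y : G ⧸ N) ∣ q := hy ▸ orderOf_map_dvd (QuotientGroup.mk' N) y
  rcases (Nat.dvd_prime hq).1 h1 with h2 | h2
  · exact h2
  · exfalso
    apply hq2
    have h3 : q ∣ Nat.card (G ⧸ N) := h2 ▸ orderOf_dvd_natCard _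
    rw [Subgroup.card_eq_card_quotient_mul_card_subgroup N, pow_two]
    exact Nat.mul_dvd_mul h3 hN

theorem dvd_card_of_mem [Finite G] {N : Subgroup G} {y : G} (hy : y ∈ N) :
    orderOf y ∣ Nat.card N := by
  rw [← Subgroup.orderOf_mk (ha := hy)]
  exact orderOf_dvd_natCard _

/-- a normal subgroup not contained in a maximal subgroup has order divisible by its index -/
theorem index_dvd_card_of_maximal [Finite G] {H : Subgroup G}
    (hmax : ∀ M, H ≤ M → M = H ∨ M = ⊤) (N : Subgroup G) [N.Normal] (hN : ¬ N ≤ H) :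
    H.index ∣ Nat.card N := by
  have h1 : H ⊔ N = ⊤ := by
    rcases hmax (H ⊔ N) le_sup_left with h | h
    · exact absurd (h ▸ le_sup_right) hN
    · exact h
  have h2 : H.relIndex N = H.index := by
    have hs : Function.Surjective (fun n : N => ((n : G) : G ⧸ H)) := by
      intro x
      obtain ⟨g, rfl⟩ := QuotientGroup.mk_surjective x
      have hg : g ∈ ((N ⊔ H : Subgroup G) : Set G) := by rw [sup_comm, h1]; trivial
      rw [Subgroup.normal_mul] at hg
      obtain ⟨n, hn, y, hy, rfl⟩ := hg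
      exact ⟨⟨n, hn⟩, by simpa [QuotientGroup.eq] using hy⟩
    refine Nat.card_congr (Equiv.ofBijective (Quotient.map' (fun n : N => (n : G)) ?_) ⟨?_, ?_⟩)
    · intro a b hab
      rw [QuotientGroup.leftRel_apply] at hab ⊢
      exact hab
    · intro a b
      induction a using Quotient.inductionOn'
      induction b using Quotient.inductionOn'
      intro hab
      apply Quotient.sound'
      have := Quotient.exact' hab
      rw [QuotientGroup.leftRel_apply] at this ⊢
      exact this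
    · intro x
      obtain ⟨n, rfl⟩ := hs x
      exact ⟨Quotient.mk'' n, rfl⟩
  rw [← h2]
  exact Subgroup.relIndex_dvd_card H N

/-- a normal subgroup of order divisible by `p` meets the centre of a Sylow `p`-subgroup -/
theorem exists_mem_center_of_dvd [Finite G] {p k : ℕ} (hp : p.Prime) (P : Subgroup G)
    (hP : Nat.card P = p ^ k) (hk : ¬ p ^ (k + 1) ∣ Nat.card G) (N : Subgroup G) [N.Normal]
    (hN : p ∣ Nat.card N) : ∃ x ∈ P, x ∈ N ∧ x ≠ 1 ∧ x ^ p = 1 ∧ ∀ y ∈ P, y * x = x * y := by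
  have : Fact p.Prime := ⟨hp⟩
  have hPp : IsPGroup p P := IsPGroup.of_card hP
  -- `N ⊓ P` is non-trivial
  have h1 : N ⊓ P ≠ ⊥ := by
    intro h0
    apply hk
    have h2 : Nat.card (P.map (QuotientGroup.mk' N)) = p ^ k := by
      rw [← hP]
      symm
      apply Nat.card_congr
      refine Equiv.ofBijective (fun y => ⟨QuotientGroup.mk' N y, ⟨y, y.2, rfl⟩⟩) ⟨?_, ?_⟩
      · intro a b hab
        have h3 : (QuotientGroup.mk' N) a = QuotientGroup.mk' N b := congrArg Subtype.val hab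
        have h4 : (a : G)⁻¹ * b ∈ N := QuotientGroup.eq.1 h3
        have h5 : (a : G)⁻¹ * b ∈ N ⊓ P := ⟨h4, P.mul_mem (P.inv_mem a.2) b.2⟩
        rw [h0, Subgroup.mem_bot, inv_mul_eq_one] at h5
        exact Subtype.ext h5
      · rintro ⟨_, y, hy, rfl⟩
        exact ⟨⟨y, hy⟩, rfl⟩
    rw [Subgroup.card_eq_card_quotient_mul_card_subgroup N, pow_succ]
    exact Nat.mul_dvd_mul (h2 ▸ Subgroup.card_subgroup_dvd_card _) hN
  have h2 : Nontrivial (N.subgroupOf P) := by
    rw [Subgroup.nontrivial_iff_ne_bot]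
    intro h0
    apply h1
    rw [Subgroup.subgroupOf_eq_bot] at h0
    exact h0.eq_bot
  have h3 : IsPGroup p (ConjAct P) := hPp.of_equiv ConjAct.toConjAct
  have h4 : p ∣ Nat.card (N.subgroupOf P) := by
    obtain ⟨n, hn, e⟩ := (hPp.to_subgroup (N.subgroupOf P)).nontrivial_iff_card.1 h2
    rw [e]; exact dvd_pow_self p hn.ne'
  obtain ⟨x, hx, hx1⟩ := h3.exists_fixed_point_of_prime_dvd_card_of_fixed_point
    (N.subgroupOf P) h4 (a := 1) (fun g => smul_one g)
  have hc : ∀ y ∈ P, y * ((x : P) : G) = ((x : P) : G) * y := by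
    intro y hy
    have h5 := congrArg (fun z : N.subgroupOf P => ((z : P) : G)) (hx (ConjAct.toConjAct ⟨y, hy⟩))
    have h6 : y * ((x : P) : G) * y⁻¹ = ((x : P) : G) := h5
    rw [mul_inv_eq_iff_eq_mul] at h6
    exact h6
  have hx2 : ((x : P) : G) ≠ 1 := fun h => hx1 (Subtype.ext (Subtype.ext h.symm))
  obtain ⟨m, hm⟩ := (IsPGroup.iff_orderOf.1 hPp) (x : P)
  have hm' : orderOf ((x : P) : G) = p ^ m := by rw [Subgroup.orderOf_coe, hm]
  obtain ⟨m, rfl⟩ : ∃ m', m = m' + 1 := by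
    cases m with
    | zero => exact absurd (orderOf_eq_one_iff.1 hm') hx2
    | succ m => exact ⟨m, rfl⟩
  refine ⟨((x : P) : G) ^ p ^ m, pow_mem (x : P).2 _, pow_mem x.2 _, ?_, ?_, ?_⟩
  · apply pow_ne_one_of_lt_orderOf (pow_pos hp.pos m).ne'
    rw [hm']; exact Nat.pow_lt_pow_right hp.one_lt (Nat.lt_succ_self m)
  · rw [← pow_mul, ← pow_succ, ← hm', pow_orderOf_eq_one]
  · intro y hy
    exact (Commute.pow_right (hc y hy) _)

/-- if `x ∈ N`, `(x * y) ^ m = 1`, `y ^ k = 1` with `m`, `k` coprime then `y ∈ N` -/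
theorem mem_of_mul_pow (N : Subgroup G) [N.Normal] {x y : G} (hx : x ∈ N) {m k : ℕ}
    (h1 : (x * y) ^ m = 1) (h2 : y ^ k = 1) (hc : m.Coprime k) : y ∈ N := by
  rw [← QuotientGroup.eq_one_iff] at hx ⊢
  have h3 : (y : G ⧸ N) ^ m = 1 := by
    have := congrArg (QuotientGroup.mk' N) h1
    rw [map_pow, map_mul, map_one, QuotientGroup.mk'_apply, QuotientGroup.mk'_apply, hx,
      one_mul] at this
    exact this
  have h4 : (y : G ⧸ N) ^ k = 1 := by
    have := congrArg (QuotientGroup.mk' N) h2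
    rwa [map_pow, map_one] at this
  have h5 := Nat.dvd_gcd (orderOf_dvd_of_pow_eq_one h3) (orderOf_dvd_of_pow_eq_one h4)
  rw [hc] at h5
  exact orderOf_eq_one_iff.1 (Nat.dvd_one.1 h5)

theorem mul_conj_mem (N : Subgroup G) [hN : N.Normal] {x : G} (hx : x ∈ N) (g : G) :
    x * (g⁻¹ * x * g) ∈ N := by
  refine mul_mem hx ?_
  have := hN.conj_mem x hx g⁻¹
  rwa [inv_inv] at this

/-- a non-trivial subgroup of a finite group has order divisible by a prime divisor of `|G|` -/
theorem exists_prime_dvd_card [Finite G] {N : Subgroup G} (hN : N ≠ ⊥) :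
    ∃ p, p.Prime ∧ p ∣ Nat.card N ∧ p ∣ Nat.card G := by
  have h1 : Nat.card N ≠ 1 := fun h => hN (Subgroup.card_eq_one.1 h)
  obtain ⟨p, hp, h2⟩ := Nat.exists_prime_and_dvd h1
  exact ⟨p, hp, h2, h2.trans (Subgroup.card_subgroup_dvd_card N)⟩

/-- two generators as a function on `ℕ` -/
def fn2 {α : Type*} (a b : α) (i : ℕ) : α := Nat.rec (motive := fun _ => α) a (fun _ _ => b) i

/-- three generators as a function on `ℕ` -/
def fn3 {α : Type*} (a b c : α) (i : ℕ) : α :=
  Nat.rec (motive := fun _ => α) a (fun j _ => fn2 b c j) i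

/-- four generators as a function on `ℕ` -/
def fn4 {α : Type*} (a b c d : α) (i : ℕ) : α :=
  Nat.rec (motive := fun _ => α) a (fun j _ => fn3 b c d j) i

theorem rel_fn2 {α β : Type*} {r : α → β → Prop} {a b : α} {x y : β} (ha : r a x) (hb : r b y)
    (i : ℕ) : r (fn2 a b i) (fn2 x y i) := by
  cases i
  · exact ha
  · exact hb

theorem rel_fn3 {α β : Type*} {r : α → β → Prop} {a b c : α} {x y z : β} (ha : r a x) (hb : r b y)
    (hc : r c z) (i : ℕ) : r (fn3 a b c i) (fn3 x y z i) := by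
  cases i
  · exact ha
  · exact rel_fn2 hb hc _

theorem rel_fn4 {α β : Type*} {r : α → β → Prop} {a b c d : α} {x y z u : β} (ha : r a x)
    (hb : r b y) (hc : r c z) (hd : r d u) (i : ℕ) : r (fn4 a b c d i) (fn4 x y z u i) := by
  cases i
  · exact ha
  · exact rel_fn3 hb hc hd _

theorem gen_fn2 (a b : G) : gen (fn2 a b) 2 = Subgroup.closure {a, b} := by
  unfold gen
  congr 1
  ext g
  constructor
  · rintro ⟨i, hi, rfl⟩
    interval_cases i
    · left; rfl
    · right; rfl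
  · rintro (rfl | rfl)
    · exact ⟨0, by norm_num, rfl⟩
    · exact ⟨1, by norm_num, rfl⟩

theorem gen_fn3 (a b c : G) : gen (fn3 a b c) 3 = Subgroup.closure {a, b, c} := by
  unfold gen
  congr 1
  ext g
  constructor
  · rintro ⟨i, hi, rfl⟩
    interval_cases i
    · left; rfl
    · right; left; rfl
    · right; right; rfl
  · rintro (rfl | rfl | rfl)
    · exact ⟨0, by norm_num, rfl⟩
    · exact ⟨1, by norm_num, rfl⟩
    · exact ⟨2, by norm_num, rfl⟩

theorem gen_fn3_two (a b c : G) : gen (fn3 a b c) 2 = gen (fn2 a b) 2 := by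
  unfold gen
  congr 1
  ext g
  constructor <;> rintro ⟨i, hi, rfl⟩ <;> refine ⟨i, hi, ?_⟩ <;> interval_cases i <;> rfl

/-- inverses of generators from codes -/
theorem IsRep.rel_inv_fn2 {a b : ℕ} {x y : G} (ha : R a x⁻¹) (hb : R b y⁻¹) (i : ℕ) :
    R (fn2 a b i) (fn2 x y i)⁻¹ :=
  rel_fn2 (r := fun c g => R c g⁻¹) ha hb i

theorem PCtx.RP_inj {c : PCtx} (h : c.Good) (hm : c.m = c.n) (haw : c.a < c.w) {a b : ℕ}
    {A : Matrix (Fin c.n) (Fin c.n) (ZMod c.p)} (ha : c.RP a A) (hb : c.RP b A)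
    (ha' : c.canonb a = true) (hb' : c.canonb b = true) : a = b := by
  cases e : Nat.beq a b
  · exact absurd rfl (PCtx.RP_ne h hm haw ha hb ha' hb' e)
  · exact Nat.eq_of_beq_eq_true e

/-- `G / Z` is simple when every normal subgroup lies in the proper normal subgroup `Z` or is `⊤` -/
theorem isSimpleGroup_quotient_of (Z : Subgroup G) [Z.Normal] (hZ : Z ≠ ⊤)
    (h : ∀ N : Subgroup G, N.Normal → Z ≤ N → N ≤ Z ∨ N = ⊤) : IsSimpleGroup (G ⧸ Z) := by
  have : Nontrivial (G ⧸ Z) := QuotientGroup.nontrivial_iff.2 hZ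
  refine ⟨fun M hM => ?_⟩
  have h0 : Z ≤ M.comap (QuotientGroup.mk' Z) := by
    intro z hz
    rw [Subgroup.mem_comap, QuotientGroup.mk'_apply, (QuotientGroup.eq_one_iff z).2 hz]
    exact one_mem _
  rcases h (M.comap (QuotientGroup.mk' Z)) inferInstance h0 with h1 | h1
  · left
    rw [eq_bot_iff]
    intro x hx
    obtain ⟨g, rfl⟩ := QuotientGroup.mk_surjective x
    exact (QuotientGroup.eq_one_iff g).2 (h1 hx)
  · right
    rw [eq_top_iff]
    intro x _
    obtain ⟨g, rfl⟩ := QuotientGroup.mk_surjective x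
    have : g ∈ M.comap (QuotientGroup.mk' Z) := h1 ▸ Subgroup.mem_top g
    exact this

end CGM
end CL
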