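import Cfsg.Agent.Base

/-!
Packed arrays of natural numbers: `fld w x i` is the `i`-th field of width `w` bits of `x`.
Field-wise behaviour of `land`, `xor`, `+`, scalar multiplication (without overflow).
-/

set_option autoImplicit false

namespace CL
namespace CGM

/-- the `i`-th field of width `w` of `x` -/
def fld (w x i : ℕ) : ℕ := Nat.mod (Nat.shiftRight x (Nat.mul w i)) (Nat.pow 2 w)

theorem fld_def (w x i : ℕ) : fld w x i = (x >>> (w * i)) % 2 ^ w := rfl

theorem fld_eq_div (w x i : ℕ) : fld w x i = x / 2 ^ (w * i) % 2 ^ w := by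
  rw [fld_def, Nat.shiftRight_eq_div_pow]

theorem fld_lt (w x i : ℕ) : fld w x i < 2 ^ w := Nat.mod_lt _ (Nat.two_pow_pos w)

theorem testBit_fld (w x i j : ℕ) :
    (fld w x i).testBit j = (decide (j < w) && x.testBit (w * i + j)) := by
  rw [fld_def, Nat.testBit_mod_two_pow, Nat.testBit_shiftRight]

@[simp] theorem fld_zero_left (w i : ℕ) : fld w 0 i = 0 := by simp [fld_def]

theorem fld_zero (w x : ℕ) : fld w x 0 = x % 2 ^ w := by simp [fld_def]

theorem fld_succ (w x i : ℕ) : fld w x (i + 1) = fld w (x / 2 ^ w) i := by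
  rw [fld_eq_div, fld_eq_div, Nat.div_div_eq_div_mul, ← pow_add]
  congr 3; ring

theorem fld_land (w x y i : ℕ) : fld w (x &&& y) i = fld w x i &&& fld w y i := by
  apply Nat.eq_of_testBit_eq
  intro j
  simp only [testBit_fld, Nat.testBit_and]
  cases decide (j < w) <;> simp

theorem fld_xor (w x y i : ℕ) : fld w (x ^^^ y) i = fld w x i ^^^ fld w y i := by
  apply Nat.eq_of_testBit_eq
  intro j
  simp only [testBit_fld, Nat.testBit_xor]
  cases decide (j < w) <;> simp

theorem fld_lor (w x y i : ℕ) : fld w (x ||| y) i = fld w x i ||| fld w y i := by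
  apply Nat.eq_of_testBit_eq
  intro j
  simp only [testBit_fld, Nat.testBit_or]
  cases decide (j < w) <;> simp

theorem fld_add (w : ℕ) : ∀ (i x y : ℕ), (∀ k, fld w x k + fld w y k < 2 ^ w) →
    fld w (x + y) i = fld w x i + fld w y i := by
  intro i
  induction i with
  | zero =>
    intro x y h
    have h0 := h 0
    rw [fld_zero, fld_zero] at h0
    rw [fld_zero, fld_zero, fld_zero, Nat.add_mod, Nat.mod_eq_of_lt h0]
  | succ i ih =>
    intro x y h
    have h0 := h 0
    rw [fld_zero, fld_zero] at h0
    rw [fld_succ, fld_succ, fld_succ, Nat.add_div_eq_of_add_mod_lt h0]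
    apply ih
    intro k
    rw [← fld_succ, ← fld_succ]
    exact h _

theorem fld_smul (w c : ℕ) : ∀ (i x : ℕ), (∀ k, c * fld w x k < 2 ^ w) →
    fld w (c * x) i = c * fld w x i := by
  intro i
  induction i with
  | zero =>
    intro x h
    have h0 := h 0
    rw [fld_zero] at h0
    rw [fld_zero, fld_zero]
    conv_lhs => rw [← Nat.mod_add_div x (2 ^ w), mul_add, mul_left_comm]
    rw [Nat.add_mul_mod_self_left, Nat.mod_eq_of_lt h0]
  | succ i ih =>
    intro x h
    have h0 := h 0
    rw [fld_zero] at h0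
    have e : c * x / 2 ^ w = c * (x / 2 ^ w) := by
      conv_lhs => rw [← Nat.mod_add_div x (2 ^ w), mul_add, mul_left_comm]
      rw [Nat.add_mul_div_left _ _ (Nat.two_pow_pos w), Nat.div_eq_of_lt h0, zero_add]
    rw [fld_succ, fld_succ, e]
    apply ih
    intro k
    rw [← fld_succ]
    exact h _

/-- two-level fields: the `j`-th field of the `i`-th row -/
theorem fld_fld (w n x i j : ℕ) (hj : j < n) :
    fld w (fld (w * n) x i) j = fld w x (n * i + j) := by
  apply Nat.eq_of_testBit_eq
  intro t
  simp only [testBit_fld]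
  by_cases ht : t < w
  · have : w * j + t < w * n := by
      calc w * j + t < w * j + w := by omega
        _ = w * (j + 1) := by ring
        _ ≤ w * n := Nat.mul_le_mul_left _ hj
    simp only [ht, this, decide_true, Bool.true_and]
    congr 1; ring
  · simp [ht]

theorem fld_fld_of_ge (w n x i j : ℕ) (hj : n ≤ j) : fld w (fld (w * n) x i) j = 0 := by
  apply Nat.eq_of_testBit_eq
  intro t
  simp only [testBit_fld, Nat.zero_testBit]
  have : ¬ (w * j + t < w * n) := by
    have := Nat.mul_le_mul_left w hj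
    omega
  simp [this]

theorem fld_shiftRight (w x k i : ℕ) : fld w (x >>> (w * k)) i = fld w x (k + i) := by
  rw [fld_def, fld_def, ← Nat.shiftRight_add]
  congr 2; ring

theorem fld_of_lt {w x n : ℕ} (h : x < 2 ^ (w * n)) {i : ℕ} (hi : n ≤ i) : fld w x i = 0 := by
  rw [fld_eq_div, Nat.div_eq_of_lt, Nat.zero_mod]
  exact lt_of_lt_of_le h (Nat.pow_le_pow_right (by norm_num) (Nat.mul_le_mul_left w hi))

theorem lt_of_fld_eq_zero {w : ℕ} (hw : 0 < w) {x n : ℕ} (h : ∀ i, n ≤ i → fld w x i = 0) :
    x < 2 ^ (w * n) := by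
  apply Nat.lt_pow_two_of_testBit
  intro t ht
  have h1 : n ≤ t / w := by
    rw [Nat.le_div_iff_mul_le hw, mul_comm]; exact ht
  have h2 := testBit_fld w x (t / w) (t % w)
  rw [h _ h1, Nat.zero_testBit, Nat.div_add_mod] at h2
  simpa [Nat.mod_lt _ hw] using h2

theorem ext_fld {w : ℕ} (hw : 0 < w) {x y : ℕ} (h : ∀ i, fld w x i = fld w y i) : x = y := by
  apply Nat.eq_of_testBit_eq
  intro t
  have h1 := testBit_fld w x (t / w) (t % w)
  have h2 := testBit_fld w y (t / w) (t % w)
  rw [h, h2, Nat.div_add_mod] at h1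
  simpa [Nat.mod_lt _ hw] using h1.symm

/-- if all fields of a row times `c` do not overflow, the product still fits in the row -/
theorem mul_lt_row {w n c r : ℕ} (hw : 0 < w) (hr : r < 2 ^ (w * n))
    (h : ∀ k, c * fld w r k < 2 ^ w) : c * r < 2 ^ (w * n) := by
  apply lt_of_fld_eq_zero hw
  intro i hi
  rw [fld_smul w c i r h, fld_of_lt hr hi, mul_zero]

/-- packing a function into fields -/
def pack (w : ℕ) (f : ℕ → ℕ) : ℕ → ℕ
  | 0 => 0
  | N + 1 => pack w f N + f N * 2 ^ (w * N)

theorem fld_mul_pow (w a N i : ℕ) (ha : a < 2 ^ w) :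
    fld w (a * 2 ^ (w * N)) i = if i = N then a else 0 := by
  apply Nat.eq_of_testBit_eq
  intro t
  rw [testBit_fld, Nat.testBit_mul_two_pow]
  by_cases ht : t < w
  · split_ifs with hi
    · subst hi; simp [ht]
    · rcases Nat.lt_or_gt_of_ne hi with h | h
      · have : ¬ (w * N ≤ w * i + t) := by
          have := Nat.mul_le_mul_left w (show i + 1 ≤ N from h)
          rw [mul_add] at this; omega
        simp [this]
      · have h1 : w ≤ w * i + t - w * N := by
          have := Nat.mul_le_mul_left w (show N + 1 ≤ i from h)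
          rw [mul_add] at this; omega
        have : a.testBit (w * i + t - w * N) = false :=
          Nat.testBit_lt_two_pow (lt_of_lt_of_le ha (Nat.pow_le_pow_right (by norm_num) h1))
        simp [this]
  · split_ifs with hi
    · have : a.testBit t = false :=
        Nat.testBit_lt_two_pow (lt_of_lt_of_le ha (Nat.pow_le_pow_right (by norm_num) (by omega)))
      simp [ht, this]
    · simp [ht]

theorem fld_pack (w : ℕ) (f : ℕ → ℕ) : ∀ N, (∀ i < N, f i < 2 ^ w) →
    ∀ i, fld w (pack w f N) i = if i < N then f i else 0 := by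
  intro N
  induction N with
  | zero => intro _ i; simp [pack]
  | succ N ih =>
    intro h i
    have ih' := ih (fun i hi => h i (by omega))
    have hN := h N (by omega)
    rw [pack, fld_add, ih', fld_mul_pow _ _ _ _ hN]
    · by_cases h1 : i < N
      · simp [h1, show i ≠ N by omega, show i < N + 1 by omega]
      · by_cases h2 : i = N
        · simp [h2]
        · simp [h1, h2, show ¬ (i < N + 1) by omega]
    · intro k
      rw [ih', fld_mul_pow _ _ _ _ hN]
      by_cases h1 : k < N
      · simpa [h1, show k ≠ N by omega] using h k (by omega)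
      · by_cases h2 : k = N
        · simpa [h2] using hN
        · simp [h1, h2]

/-- `rep w N` has a `1` in each of the first `N` fields of width `w` -/
def rep (w N : ℕ) : ℕ := Nat.div (Nat.sub (Nat.pow 2 (Nat.mul w N)) 1) (Nat.sub (Nat.pow 2 w) 1)

theorem rep_eq_pack {w : ℕ} (hw : 0 < w) (N : ℕ) : rep w N = pack w (fun _ => 1) N := by
  have h2 : 2 ≤ 2 ^ w := by
    calc 2 = 2 ^ 1 := rfl
      _ ≤ 2 ^ w := Nat.pow_le_pow_right (by norm_num) hw
  have e : rep w N = ((2 ^ w) ^ N - 1) / (2 ^ w - 1) := by
    rw [← pow_mul]; rfl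
  rw [e, ← Nat.geomSum_eq h2]
  induction N with
  | zero => simp [pack]
  | succ N ih =>
    rw [Finset.sum_range_succ, pack, ← pow_mul, one_mul, ih]
    rw [← pow_mul]; rfl

theorem fld_rep {w : ℕ} (hw : 0 < w) (N i : ℕ) : fld w (rep w N) i = if i < N then 1 else 0 := by
  rw [rep_eq_pack hw, fld_pack]
  intro i _
  exact Nat.one_lt_two_pow (by omega)

theorem fld_mul_rep {w : ℕ} (hw : 0 < w) {c : ℕ} (hc : c < 2 ^ w) (N i : ℕ) :
    fld w (c * rep w N) i = if i < N then c else 0 := by
  rw [fld_smul, fld_rep hw]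
  · split_ifs <;> simp
  · intro k
    rw [fld_rep hw]
    split_ifs
    · simpa using hc
    · simp

/-- strict evaluation: in the kernel `force x k` evaluates `x` to a literal before calling `k` -/
noncomputable def force {α : Type} (x : ℕ) (k : ℕ → α) : α :=
  Nat.rec (motive := fun _ => α) (k 0) (fun n _ => k (Nat.succ n)) x

@[simp] theorem force_eq {α : Type} (x : ℕ) (k : ℕ → α) : force x k = k x := by
  cases x <;> rfl

end CGM
end CL
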