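import Cfsg.Agent.CGM.Fld

/-!
Packed matrices over `ZMod p`: entry `(i, j)` of an `m × n` matrix is the field `n * i + j`
of width `w`.  Kernel-efficient multiplication: `mul2` (over `ZMod 2`, `w = 1`) and `PCtx.mul`.
-/

set_option autoImplicit false

namespace CL
namespace CGM

open Finset

/-- entry `(i, j)` of a packed matrix with rows of `n` fields of width `w`, read in `R` -/
def ent (R : Type*) [NatCast R] (n w A i j : ℕ) : R := ((fld w A (n * i + j) : ℕ) : R)

/-- the `m × n` matrix coded by `A` -/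
def toMat (R : Type*) [NatCast R] (m n w A : ℕ) : Matrix (Fin m) (Fin n) R :=
  Matrix.of fun i j => ent R n w A i j

@[simp] theorem toMat_apply (R : Type*) [NatCast R] (m n w A : ℕ) (i : Fin m) (j : Fin n) :
    toMat R m n w A i j = ent R n w A i j := rfl

/-- column `k` of `A`, spread at row positions -/
theorem fld_col {w n m : ℕ} (hw : 0 < w) (hn : 0 < n) (A k i : ℕ) :
    fld (w * n) ((A >>> (w * k)) &&& ((2 ^ w - 1) * rep (w * n) m)) i =
      if i < m then fld w A (n * i + k) else 0 := by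
  have hW : 0 < w * n := Nat.mul_pos hw hn
  have hlt : 2 ^ w - 1 < 2 ^ (w * n) := by
    have : 2 ^ w ≤ 2 ^ (w * n) := Nat.pow_le_pow_right (by norm_num) (Nat.le_mul_of_pos_right w hn)
    have := Nat.two_pow_pos w
    omega
  rw [fld_land, fld_mul_rep hW hlt]
  split_ifs
  · rw [Nat.and_two_pow_sub_one_eq_mod, ← fld_zero, fld_fld _ _ _ _ _ hn, fld_shiftRight, add_zero,
      add_comm]
  · simp

/-- fields of the outer product of column `k` of `A` with row `k` of `B` -/
theorem fld_outer {w n m a b : ℕ} (hw : 0 < w) (hn : 0 < n) {A B : ℕ} (hA : ∀ i, fld w A i ≤ a)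
    (hB : ∀ i, fld w B i ≤ b) (hab : a * b < 2 ^ w) (k i j : ℕ) (hj : j < n) :
    fld w (((A >>> (w * k)) &&& ((2 ^ w - 1) * rep (w * n) m)) *
      ((B >>> (w * n * k)) &&& (2 ^ (w * n) - 1))) (n * i + j) =
      if i < m then fld w A (n * i + k) * fld w B (n * k + j) else 0 := by
  have hr : (B >>> (w * n * k)) &&& (2 ^ (w * n) - 1) = fld (w * n) B k := by
    rw [Nat.and_two_pow_sub_one_eq_mod]; rfl
  have hrb : ∀ t, fld w (fld (w * n) B k) t ≤ b := by
    intro t
    by_cases ht : t < n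
    · rw [fld_fld _ _ _ _ _ ht]; exact hB _
    · rw [fld_fld_of_ge _ _ _ _ _ (by omega)]; exact Nat.zero_le _
  have hc : ∀ c, c ≤ a → ∀ t, c * fld w (fld (w * n) B k) t < 2 ^ w := fun c hc t =>
    lt_of_le_of_lt (Nat.mul_le_mul hc (hrb t)) hab
  have hcol : ∀ i, fld (w * n) ((A >>> (w * k)) &&& ((2 ^ w - 1) * rep (w * n) m)) i ≤ a := by
    intro i
    rw [fld_col hw hn]
    split_ifs
    · exact hA _
    · exact Nat.zero_le _
  rw [hr, ← fld_fld _ _ _ _ _ hj, mul_comm _ (fld (w * n) B k), fld_smul,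
    mul_comm (fld (w * n) B k), fld_smul,
    fld_col hw hn, fld_fld _ _ _ _ _ hj]
  · split_ifs <;> simp
  · exact hc _ (hcol i)
  · intro t
    rw [mul_comm]
    exact mul_lt_row hw (fld_lt _ _ _) (hc _ (hcol t))

theorem exists_row_col {n : ℕ} (hn : 0 < n) (t : ℕ) : ∃ i j, j < n ∧ t = n * i + j :=
  ⟨t / n, t % n, Nat.mod_lt _ hn, (Nat.div_add_mod t n).symm⟩

/-! ### Matrices over `ZMod 2` -/

/-- product over `ZMod 2`; `cm = rep n m` (`m` = number of rows of `A`), `rm = 2 ^ n - 1` -/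
noncomputable def mul2 (n cm rm A B : ℕ) : ℕ :=
  Nat.rec (motive := fun _ => ℕ) 0 (fun k ih =>
    Nat.xor (Nat.mul (Nat.land (Nat.shiftRight A k) cm)
      (Nat.land (Nat.shiftRight B (Nat.mul n k)) rm)) ih) n

theorem fld_one_le (x i : ℕ) : fld 1 x i ≤ 1 := by
  have := fld_lt 1 x i
  omega

theorem cast_xor_zmod2 {x y : ℕ} (hx : x ≤ 1) (hy : y ≤ 1) :
    ((x ^^^ y : ℕ) : ZMod 2) = (x : ZMod 2) + (y : ZMod 2) := by
  interval_cases x <;> interval_cases y <;> rfl

theorem cast_fld_xor (x y i : ℕ) :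
    ((fld 1 (x ^^^ y) i : ℕ) : ZMod 2) = (fld 1 x i : ZMod 2) + (fld 1 y i : ZMod 2) := by
  rw [fld_xor, cast_xor_zmod2 (fld_one_le _ _) (fld_one_le _ _)]

theorem ent_mul2 {n m : ℕ} (hn : 0 < n) (A B i j : ℕ) (hj : j < n) :
    ent (ZMod 2) n 1 (mul2 n (rep n m) (2 ^ n - 1) A B) i j =
      if i < m then ∑ k ∈ range n, ent (ZMod 2) n 1 A i k * ent (ZMod 2) n 1 B k j else 0 := by
  have key : ∀ t : ℕ, ent (ZMod 2) n 1 (Nat.rec (motive := fun _ => ℕ) 0 (fun k ih =>
      Nat.xor (Nat.mul (Nat.land (Nat.shiftRight A k) (rep n m))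
      (Nat.land (Nat.shiftRight B (Nat.mul n k)) (2 ^ n - 1))) ih) t) i j =
      if i < m then ∑ k ∈ range t, ent (ZMod 2) n 1 A i k * ent (ZMod 2) n 1 B k j else 0 := by
    intro t
    induction t with
    | zero => simp [ent]
    | succ t ih =>
      have h := fld_outer (w := 1) (m := m) one_pos hn (fld_one_le A) (fld_one_le B) (by norm_num)
        t i j hj
      simp only [one_mul, pow_one, show 2 - 1 = 1 from rfl] at h
      unfold ent at ih ⊢
      show ((fld 1 ((((A >>> t) &&& rep n m) * ((B >>> (n * t)) &&& (2 ^ n - 1))) ^^^ _)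
        (n * i + j) : ℕ) : ZMod 2) = _
      rw [cast_fld_xor, ih, h, sum_range_succ]
      split_ifs
      · rw [add_comm]; push_cast; rfl
      · simp
  exact key n

theorem toMat_mul2 {n m : ℕ} (hn : 0 < n) (A B : ℕ) :
    toMat (ZMod 2) m n 1 (mul2 n (rep n m) (2 ^ n - 1) A B) =
      toMat (ZMod 2) m n 1 A * toMat (ZMod 2) n n 1 B := by
  ext i j
  rw [toMat_apply, ent_mul2 hn _ _ _ _ j.2, if_pos i.2, Matrix.mul_apply,
    ← Fin.sum_univ_eq_sum_range (fun k => ent (ZMod 2) n 1 A i k * ent (ZMod 2) n 1 B k j)]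
  rfl

/-- the product has no bits outside the `m × n` block -/
theorem mul2_lt {n m : ℕ} (hn : 0 < n) (A B : ℕ) :
    mul2 n (rep n m) (2 ^ n - 1) A B < 2 ^ (n * m) := by
  have h := lt_of_fld_eq_zero (w := 1) one_pos (x := mul2 n (rep n m) (2 ^ n - 1) A B)
    (n := n * m) ?_
  · rwa [one_mul] at h
  intro t ht
  obtain ⟨i, j, hj, rfl⟩ := exists_row_col hn t
  have hi : ¬ i < m := by
    intro hi
    have := Nat.mul_le_mul_left n (show i + 1 ≤ m from hi)
    rw [mul_add] at this; omega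
  have h := ent_mul2 (m := m) hn A B i j hj
  rw [if_neg hi, ent] at h
  have h1 := fld_one_le (mul2 n (rep n m) (2 ^ n - 1) A B) (n * i + j)
  interval_cases (fld 1 (mul2 n (rep n m) (2 ^ n - 1) A B) (n * i + j))
  · rfl
  · exact absurd h (by decide)

/-- codes below `2 ^ (n * m)` are determined by their matrix -/
theorem eq_of_toMat_eq {p n m w : ℕ} (hw : 0 < w) (hn : 0 < n) {A B : ℕ}
    (hA : A < 2 ^ (w * (n * m))) (hB : B < 2 ^ (w * (n * m)))
    (cA : ∀ i, fld w A i < p) (cB : ∀ i, fld w B i < p)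
    (h : toMat (ZMod p) m n w A = toMat (ZMod p) m n w B) : A = B := by
  apply ext_fld hw
  intro t
  by_cases ht : t < n * m
  · obtain ⟨i, j, hj, rfl⟩ := exists_row_col hn t
    have hi : i < m := by
      by_contra hi
      have := Nat.mul_le_mul_left n (show m ≤ i by omega)
      omega
    have h1 := congrFun (congrFun h ⟨i, hi⟩) ⟨j, hj⟩
    simp only [toMat_apply, ent] at h1
    rw [ZMod.natCast_eq_natCast_iff', Nat.mod_eq_of_lt (cA _), Nat.mod_eq_of_lt (cB _)] at h1
    exact h1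
  · rw [fld_of_lt hA (by omega), fld_of_lt hB (by omega)]

/-- the code of the identity matrix -/
def idCode (n w : ℕ) : ℕ := rep (Nat.mul w (Nat.succ n)) n

theorem fld_idCode {n w : ℕ} (hw : 0 < w) (t : ℕ) :
    fld w (idCode n w) t = if t % (n + 1) = 0 ∧ t / (n + 1) < n then 1 else 0 := by
  obtain ⟨i, j, hj, rfl⟩ := exists_row_col (Nat.succ_pos n) t
  have e : idCode n w = rep (w * (n + 1)) n := rfl
  rw [e, ← fld_fld _ _ _ _ _ hj, fld_rep (Nat.mul_pos hw (Nat.succ_pos n)), Nat.succ_eq_add_one,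
    Nat.mul_add_mod_self_left, Nat.mod_eq_of_lt hj, Nat.mul_add_div (Nat.succ_pos n),
    Nat.div_eq_of_lt hj, add_zero]
  by_cases hi : i < n
  · by_cases h0 : j = 0
    · subst h0
      simp only [hi, if_true, and_self]
      rw [fld_zero, Nat.mod_eq_of_lt (Nat.one_lt_two_pow (by omega))]
    · simp only [hi, if_true, h0, false_and, if_false]
      apply fld_of_lt (n := 1) _ (by omega)
      exact Nat.one_lt_two_pow (by omega)
  · simp [hi]

theorem fld_idCode_le {n w : ℕ} (hw : 0 < w) (t : ℕ) : fld w (idCode n w) t ≤ 1 := by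
  rw [fld_idCode hw]; split_ifs <;> simp

theorem toMat_idCode (R : Type*) [Semiring R] {n w : ℕ} (hw : 0 < w) :
    toMat R n n w (idCode n w) = 1 := by
  ext i j
  rw [toMat_apply, ent, fld_idCode hw, Matrix.one_apply]
  have hi := i.2
  have hj := j.2
  by_cases h : i = j
  · subst h
    have e : n * (i : ℕ) + i = (n + 1) * i := by ring
    simp [e, hi]
  · have h' : (i : ℕ) ≠ j := fun h' => h (Fin.ext h')
    have : ¬ ((n * (i : ℕ) + j) % (n + 1) = 0) := by
      intro h0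
      obtain ⟨c, hc⟩ := Nat.dvd_of_mod_eq_zero h0
      rcases Nat.lt_trichotomy c i with hc' | hc' | hc'
      · have := Nat.mul_le_mul_left n (show c + 1 ≤ i from hc')
        nlinarith
      · subst hc'
        apply h'
        have : (n + 1) * (i : ℕ) = n * i + i := by ring
        omega
      · have := Nat.mul_le_mul_left n (show i + 1 ≤ c from hc')
        nlinarith
    simp [this, h]

/-! ### Matrices over `ZMod p` -/

/-- the product over `ℕ` (fields must not overflow) -/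
noncomputable def mulRaw (n w W cm rm A B : ℕ) : ℕ :=
  Nat.rec (motive := fun _ => ℕ) 0 (fun k ih =>
    Nat.add (Nat.mul (Nat.land (Nat.shiftRight A (Nat.mul w k)) cm)
      (Nat.land (Nat.shiftRight B (Nat.mul W k)) rm)) ih) n

theorem fld_mulRaw {w n m a b : ℕ} (hw : 0 < w) (hn : 0 < n) {A B : ℕ} (hA : ∀ i, fld w A i ≤ a)
    (hB : ∀ i, fld w B i ≤ b) (hab : n * (a * b) < 2 ^ w) (i j : ℕ) (hj : j < n) :
    fld w (mulRaw n w (w * n) ((2 ^ w - 1) * rep (w * n) m) (2 ^ (w * n) - 1) A B) (n * i + j) =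
      if i < m then ∑ k ∈ range n, fld w A (n * i + k) * fld w B (n * k + j) else 0 := by
  have hab1 : a * b < 2 ^ w := lt_of_le_of_lt (Nat.le_mul_of_pos_left _ hn) hab
  have key : ∀ t : ℕ, t ≤ n → ∀ i j, j < n → fld w (Nat.rec (motive := fun _ => ℕ) 0 (fun k ih =>
      Nat.add (Nat.mul (Nat.land (Nat.shiftRight A (Nat.mul w k)) ((2 ^ w - 1) * rep (w * n) m))
      (Nat.land (Nat.shiftRight B (Nat.mul (w * n) k)) (2 ^ (w * n) - 1))) ih) t) (n * i + j) =
      if i < m then ∑ k ∈ range t, fld w A (n * i + k) * fld w B (n * k + j) else 0 := by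
    intro t
    induction t with
    | zero => intro _ i j _; simp
    | succ t ih =>
      intro ht i j hj
      have ih' := ih (by omega)
      have h := fld_outer (m := m) hw hn hA hB hab1 t
      show fld w (((A >>> (w * t)) &&& ((2 ^ w - 1) * rep (w * n) m)) *
        ((B >>> (w * n * t)) &&& (2 ^ (w * n) - 1)) + _) (n * i + j) = _
      rw [fld_add, ih' i j hj, h i j hj, sum_range_succ]
      · split_ifs
        · rw [add_comm]
        · rfl
      · intro u
        obtain ⟨i, j, hj, rfl⟩ := exists_row_col hn u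
        rw [ih' i j hj, h i j hj]
        split_ifs
        · have h1 : ∑ k ∈ range t, fld w A (n * i + k) * fld w B (n * k + j) ≤ t * (a * b) := by
            have := Finset.sum_le_card_nsmul (range t)
              (fun k => fld w A (n * i + k) * fld w B (n * k + j)) (a * b)
              (fun k _ => Nat.mul_le_mul (hA _) (hB _))
            simpa using this
          have h2 : fld w A (n * i + t) * fld w B (n * t + j) ≤ a * b :=
            Nat.mul_le_mul (hA _) (hB _)
          have h3 : (t + 1) * (a * b) ≤ n * (a * b) := Nat.mul_le_mul_right _ ht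
          nlinarith
        · simp
  exact key n le_rfl i j hj

/-- specification-level field-wise reduction (never evaluated in practice) -/
def slowRed (p w N R : ℕ) : ℕ := pack w (fun i => fld w R i % p) N

/-- field-wise reduction modulo `p`, given a guess `Q` of the quotients -/
noncomputable def redWith (p w N mC R Q : ℕ) : ℕ :=
  (fun C => Bool.rec (motive := fun _ => ℕ) (slowRed p w N R) C
    (Nat.beq (Nat.add C (Nat.mul p Q)) R)) (Nat.land (Nat.sub R (Nat.mul p Q)) mC)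

/-- unverified guess of the quotients (Barrett reduction on even and odd fields) -/
def guessQ (w ev eq mu s R : ℕ) : ℕ :=
  Nat.lor (Nat.land (Nat.shiftRight (Nat.mul (Nat.land R ev) mu) s) eq)
    (Nat.shiftLeft (Nat.land (Nat.shiftRight (Nat.mul (Nat.land (Nat.shiftRight R w) ev) mu) s) eq) w)

theorem fld_land_mask_le {w a : ℕ} (hw : 0 < w) (ha : a ≤ w) (N x i : ℕ) :
    fld w (x &&& ((2 ^ a - 1) * rep w N)) i ≤ 2 ^ a - 1 := by
  have hlt : 2 ^ a - 1 < 2 ^ w := by
    have : 2 ^ a ≤ 2 ^ w := Nat.pow_le_pow_right (by norm_num) ha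
    have := Nat.two_pow_pos a
    omega
  rw [fld_land, fld_mul_rep hw hlt]
  split_ifs
  · exact Nat.and_le_right
  · simp

theorem fld_land_mask_of_ge {w a : ℕ} (hw : 0 < w) (ha : a ≤ w) (N x i : ℕ) (hi : N ≤ i) :
    fld w (x &&& ((2 ^ a - 1) * rep w N)) i = 0 := by
  have hlt : 2 ^ a - 1 < 2 ^ w := by
    have : 2 ^ a ≤ 2 ^ w := Nat.pow_le_pow_right (by norm_num) ha
    have := Nat.two_pow_pos a
    omega
  rw [fld_land, fld_mul_rep hw hlt, if_neg (by omega)]
  simp

theorem redWith_spec {p w a b N : ℕ} (hw : 0 < w) (hp : 0 < p) (hpa : p ≤ 2 ^ a) (ha : a ≤ w)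
    (hb : b ≤ w) (hov : (2 ^ a - 1) + p * (2 ^ b - 1) < 2 ^ w) (R Q : ℕ) :
    (∀ i, fld w (redWith p w N ((2 ^ a - 1) * rep w N) R (Q &&& ((2 ^ b - 1) * rep w N))) i ≤
      2 ^ a - 1) ∧
    (∀ i, N ≤ i →
      fld w (redWith p w N ((2 ^ a - 1) * rep w N) R (Q &&& ((2 ^ b - 1) * rep w N))) i = 0) ∧
    ∀ i < N, ((fld w (redWith p w N ((2 ^ a - 1) * rep w N) R (Q &&& ((2 ^ b - 1) * rep w N))) i :
      ℕ) : ZMod p) = (fld w R i : ZMod p) := by
  set Q' := Q &&& ((2 ^ b - 1) * rep w N) with hQ'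
  set C := (R - p * Q') &&& ((2 ^ a - 1) * rep w N) with hC
  have e : redWith p w N ((2 ^ a - 1) * rep w N) R Q' =
      Bool.rec (motive := fun _ => ℕ) (slowRed p w N R) C (Nat.beq (C + p * Q') R) := rfl
  rw [e]
  cases hbeq : Nat.beq (C + p * Q') R
  · have hs : ∀ i, fld w (slowRed p w N R) i = if i < N then fld w R i % p else 0 := by
      apply fld_pack
      intro i _
      exact lt_of_le_of_lt (Nat.mod_le _ _) (fld_lt _ _ _)
    refine ⟨fun i => ?_, fun i hi => ?_, fun i hi => ?_⟩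
    · show fld w (slowRed p w N R) i ≤ _
      rw [hs]
      split_ifs
      · have := Nat.mod_lt (fld w R i) hp
        omega
      · exact Nat.zero_le _
    · show fld w (slowRed p w N R) i = _
      rw [hs, if_neg (by omega)]
    · show ((fld w (slowRed p w N R) i : ℕ) : ZMod p) = _
      rw [hs, if_pos hi, ZMod.natCast_mod]
  · have hR : C + p * Q' = R := Nat.eq_of_beq_eq_true hbeq
    have hCl := fld_land_mask_le hw ha N (R - p * Q')
    have hQl := fld_land_mask_le hw hb N Q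
    have hpQ : ∀ k, p * fld w Q' k < 2 ^ w := fun k =>
      lt_of_le_of_lt (le_trans (Nat.mul_le_mul_left p (hQl k)) (Nat.le_add_left _ _)) hov
    refine ⟨hCl, fld_land_mask_of_ge hw ha N _, fun i _ => ?_⟩
    show ((fld w C i : ℕ) : ZMod p) = _
    rw [← hR, fld_add, fld_smul _ _ _ _ hpQ]
    · push_cast; simp
    · intro k
      rw [fld_smul _ _ _ _ hpQ]
      exact lt_of_le_of_lt (add_le_add (hCl k) (Nat.mul_le_mul_left p (hQl k))) hov

/-- Parameters of the arithmetic of packed `m × n` by `n × n` matrices over `ZMod p`: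
fields have `w` bits, reduced entries are `< 2 ^ a`, quotients `< 2 ^ b`; `mu`, `s` are the
(unverified) Barrett constants. -/
structure PCtx where
  p : ℕ
  n : ℕ
  m : ℕ
  w : ℕ
  a : ℕ
  b : ℕ
  mu : ℕ
  s : ℕ

namespace PCtx
variable (c : PCtx)

def W : ℕ := Nat.mul c.w c.n
def N : ℕ := Nat.mul c.n c.m
def cm : ℕ := Nat.mul (Nat.sub (Nat.pow 2 c.w) 1) (rep c.W c.m)
def rm : ℕ := Nat.sub (Nat.pow 2 c.W) 1
def mC : ℕ := Nat.mul (Nat.sub (Nat.pow 2 c.a) 1) (rep c.w c.N)
def mQ : ℕ := Nat.mul (Nat.sub (Nat.pow 2 c.b) 1) (rep c.w c.N)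
def ev : ℕ := Nat.mul (Nat.sub (Nat.pow 2 c.w) 1) (rep (Nat.mul 2 c.w) (Nat.div (Nat.succ c.N) 2))
def eq : ℕ := Nat.mul (Nat.sub (Nat.pow 2 c.b) 1) (rep (Nat.mul 2 c.w) (Nat.div (Nat.succ c.N) 2))

/-- field-wise reduction modulo `p` -/
noncomputable def red (R : ℕ) : ℕ :=
  redWith c.p c.w c.N c.mC R (Nat.land (guessQ c.w c.ev c.eq c.mu c.s R) c.mQ)

/-- product of packed matrices over `ZMod p` -/
noncomputable def mul (A B : ℕ) : ℕ := c.red (mulRaw c.n c.w c.W c.cm c.rm A B)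

/-- the decidable side conditions on the parameters -/
def Good : Prop := 0 < c.w ∧ 0 < c.n ∧ 0 < c.p ∧ c.p ≤ 2 ^ c.a ∧ c.a ≤ c.w ∧ c.b ≤ c.w ∧
  (2 ^ c.a - 1) + c.p * (2 ^ c.b - 1) < 2 ^ c.w ∧ c.n * ((2 ^ c.a - 1) * (2 ^ c.a - 1)) < 2 ^ c.w ∧
  0 < c.a

instance decGood : Decidable c.Good := by unfold Good; infer_instance

/-- all fields are `< 2 ^ a` -/
def Ok (A : ℕ) : Prop := ∀ i, fld c.w A i ≤ 2 ^ c.a - 1

/-- boolean test for `Ok` (and for having no bits outside the `m × n` block) -/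
def okb (A : ℕ) : Bool := Nat.beq (Nat.land A c.mC) A

variable {c}

theorem red_spec (h : c.Good) (R : ℕ) : c.Ok (c.red R) ∧ (∀ i, c.n * c.m ≤ i → fld c.w (c.red R) i = 0)
    ∧ ∀ i < c.n * c.m, ((fld c.w (c.red R) i : ℕ) : ZMod c.p) = (fld c.w R i : ZMod c.p) :=
  redWith_spec h.1 h.2.2.1 h.2.2.2.1 h.2.2.2.2.1 h.2.2.2.2.2.1 h.2.2.2.2.2.2.1 R _

theorem ok_of_okb (h : c.Good) {A : ℕ} (hA : c.okb A = true) : c.Ok A := by
  have e : A &&& ((2 ^ c.a - 1) * rep c.w (c.n * c.m)) = A := Nat.eq_of_beq_eq_true hA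
  intro i
  rw [← e]
  exact fld_land_mask_le h.1 h.2.2.2.2.1 _ _ _

theorem lt_of_okb (h : c.Good) {A : ℕ} (hA : c.okb A = true) : A < 2 ^ (c.w * (c.n * c.m)) := by
  have e : A &&& ((2 ^ c.a - 1) * rep c.w (c.n * c.m)) = A := Nat.eq_of_beq_eq_true hA
  apply lt_of_fld_eq_zero h.1
  intro i hi
  rw [← e]
  exact fld_land_mask_of_ge h.1 h.2.2.2.2.1 _ _ _ hi

theorem ok_mul (h : c.Good) (A B : ℕ) : c.Ok (c.mul A B) := (red_spec h _).1

theorem mul_lt (h : c.Good) (A B : ℕ) : c.mul A B < 2 ^ (c.w * (c.n * c.m)) :=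
  lt_of_fld_eq_zero h.1 (red_spec h _).2.1

theorem ent_mul (h : c.Good) {A B : ℕ} (hA : c.Ok A) (hB : c.Ok B) {i j : ℕ} (hi : i < c.m)
    (hj : j < c.n) : ent (ZMod c.p) c.n c.w (c.mul A B) i j =
      ∑ k ∈ range c.n, ent (ZMod c.p) c.n c.w A i k * ent (ZMod c.p) c.n c.w B k j := by
  have hlt : c.n * i + j < c.n * c.m := by
    have := Nat.mul_le_mul_left c.n (show i + 1 ≤ c.m from hi)
    rw [mul_add] at this; omega
  have h1 := (red_spec h (mulRaw c.n c.w c.W c.cm c.rm A B)).2.2 _ hlt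
  have h2 := fld_mulRaw (m := c.m) h.1 h.2.1 hA hB h.2.2.2.2.2.2.2.1 i j hj
  rw [if_pos hi] at h2
  unfold ent mul
  rw [h1]
  show ((fld c.w (mulRaw c.n c.w (c.w * c.n) ((2 ^ c.w - 1) * rep (c.w * c.n) c.m)
    (2 ^ (c.w * c.n) - 1) A B) (c.n * i + j) : ℕ) : ZMod c.p) = _
  rw [h2]
  push_cast
  rfl

theorem toMat_mul (h : c.Good) {A B : ℕ} (hA : c.Ok A) (hB : c.Ok B) :
    toMat (ZMod c.p) c.m c.n c.w (c.mul A B) =
      toMat (ZMod c.p) c.m c.n c.w A * toMat (ZMod c.p) c.n c.n c.w B := by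
  ext i j
  rw [toMat_apply, ent_mul h hA hB i.2 j.2, Matrix.mul_apply,
    ← Fin.sum_univ_eq_sum_range
      (fun k => ent (ZMod c.p) c.n c.w A i k * ent (ZMod c.p) c.n c.w B k j)]
  rfl

theorem ok_idCode (h : c.Good) : c.Ok (idCode c.n c.w) := by
  intro i
  have h1 := fld_idCode_le (n := c.n) h.1 i
  have h2 : 2 ≤ 2 ^ c.a := by
    calc 2 = 2 ^ 1 := rfl
      _ ≤ 2 ^ c.a := Nat.pow_le_pow_right (by norm_num) h.2.2.2.2.2.2.2.2
  omega

/-- boolean test: all fields are `< p` (needs `a < w`) -/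
def canonb (c : PCtx) (A : ℕ) : Bool :=
  Bool.rec (motive := fun _ => Bool) false
    (Nat.beq (Nat.land (Nat.add A (Nat.mul (Nat.sub (Nat.pow 2 c.a) c.p) (rep c.w c.N)))
      (Nat.mul (Nat.pow 2 c.a) (rep c.w c.N))) 0) (c.okb A)

theorem okb_of_canonb {A : ℕ} (hA : c.canonb A = true) : c.okb A = true := by
  unfold canonb at hA
  cases h : c.okb A
  · rw [h] at hA; exact hA
  · rfl

theorem lt_of_canonb (h : c.Good) (haw : c.a < c.w) {A : ℕ} (hA : c.canonb A = true) (i : ℕ) :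
    fld c.w A i < c.p := by
  have h1 := okb_of_canonb hA
  have h2 : (A + (2 ^ c.a - c.p) * rep c.w (c.n * c.m)) &&& (2 ^ c.a * rep c.w (c.n * c.m)) = 0 := by
    unfold canonb at hA
    rw [h1] at hA
    exact Nat.eq_of_beq_eq_true hA
  have hok := ok_of_okb h h1
  have hpos := Nat.two_pow_pos c.a
  have h3 : 2 * 2 ^ c.a ≤ 2 ^ c.w := by
    rw [← pow_succ']; exact Nat.pow_le_pow_right (by norm_num) haw
  by_cases hi : i < c.n * c.m
  · have h4 := congrArg (fun x => fld c.w x i) h2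
    simp only [fld_zero_left] at h4
    rw [fld_land, fld_mul_rep h.1 (by omega), if_pos hi, fld_add,
      fld_mul_rep h.1 (by omega), if_pos hi] at h4
    · by_contra hge
      have h5 := hok i
      have hp := h.2.2.2.1
      have h6 : (fld c.w A i + (2 ^ c.a - c.p)).testBit c.a = true := by
        have e : fld c.w A i + (2 ^ c.a - c.p) = 2 ^ c.a + (fld c.w A i - c.p) := by omega
        rw [e, Nat.testBit_two_pow_add_eq, Nat.testBit_lt_two_pow (by omega)]
        rfl
      have h7 := congrArg (fun x => Nat.testBit x c.a) h4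
      simp [Nat.testBit_and, h6] at h7
    · intro k
      have := hok k
      have hp := h.2.2.1
      rw [fld_mul_rep h.1 (by omega)]
      split_ifs <;> omega
  · rw [fld_of_lt (lt_of_okb h h1) (by omega)]
    exact h.2.2.1

theorem eq_of_canonb (h : c.Good) (haw : c.a < c.w) {A B : ℕ} (hA : c.canonb A = true)
    (hB : c.canonb B = true)
    (e : toMat (ZMod c.p) c.m c.n c.w A = toMat (ZMod c.p) c.m c.n c.w B) : A = B :=
  eq_of_toMat_eq h.1 h.2.1 (lt_of_okb h (okb_of_canonb hA)) (lt_of_okb h (okb_of_canonb hB))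
    (lt_of_canonb h haw hA) (lt_of_canonb h haw hB) e

end PCtx

end CGM
end CL
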