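import Cfsg.Agent.CGM.Mat

/-!
Black-box models of groups by codes in `ℕ`: `IsRep mul one R` says that `R c g` ("the code `c`
represents `g`") is compatible with multiplication and determines `g`.
Evaluation of words / group terms / straight-line programs on codes, relator checks, homomorphisms
from presented groups, element orders.  Instances: packed matrices in `GL (Fin n) (ZMod p)`.
-/

set_option autoImplicit false

namespace CL
namespace CGM

/-- codes in `ℕ` with multiplication `mul` represent elements of the monoid `G` through `R` -/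
structure IsRep {G : Type*} [Monoid G] (mul : ℕ → ℕ → ℕ) (one : ℕ) (R : ℕ → G → Prop) : Prop where
  one : R one 1
  mul : ∀ {a b : ℕ} {g h : G}, R a g → R b h → R (mul a b) (g * h)
  uniq : ∀ {a : ℕ} {g h : G}, R a g → R a h → g = h

/-- `n`-th element of a list of numbers (default `0`), written with `List.rec` -/
noncomputable def nth (l : List ℕ) : ℕ → ℕ :=
  List.rec (motive := fun _ => ℕ → ℕ) (fun _ => 0)
    (fun a _ ih i => Nat.rec (motive := fun _ => ℕ) a (fun j _ => ih j) i) l

@[simp] theorem nth_nil (i : ℕ) : nth [] i = 0 := rfl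
@[simp] theorem nth_cons_zero (a : ℕ) (l : List ℕ) : nth (a :: l) 0 = a := rfl
@[simp] theorem nth_cons_succ (a : ℕ) (l : List ℕ) (i : ℕ) : nth (a :: l) (i + 1) = nth l i := rfl

theorem nth_eq_getD (l : List ℕ) (i : ℕ) : nth l i = l.getD i 0 := by
  induction l generalizing i with
  | nil => simp
  | cons a l ih => cases i <;> simp [ih]

/-- binary powering on codes (fuel `f` must satisfy `k < 2 ^ f`, otherwise the result is `one`
only when `k = 0`; see `IsRep.powC`) -/
noncomputable def powAux (mul : ℕ → ℕ → ℕ) (one a : ℕ) (f : ℕ) : ℕ → ℕ :=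
  Nat.rec (motive := fun _ => ℕ → ℕ) (fun _ => one) (fun _ ih k =>
    Bool.rec (motive := fun _ => ℕ)
      (Bool.rec (motive := fun _ => ℕ)
        ((fun x => Bool.rec (motive := fun _ => ℕ) (mul (mul x x) a) (mul x x)
          (Nat.beq (Nat.mod k 2) 0)) (ih (Nat.div k 2)))
        a (Nat.beq k 1))
      one (Nat.beq k 0)) f

/-- `a ^ k` on codes -/
noncomputable def powC (mul : ℕ → ℕ → ℕ) (one a k : ℕ) : ℕ :=
  powAux mul one a (Nat.succ (Nat.log2 k)) k

/-- group terms in generators indexed by `ℕ` -/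
inductive Tm : Type
  | one : Tm
  | gen (i : ℕ) : Tm
  | mul (a b : Tm) : Tm
  | inv (a : Tm) : Tm
  | pow (a : Tm) (k : ℕ) : Tm

namespace Tm
instance instMulTm : Mul Tm := ⟨Tm.mul⟩
instance instInvTm : Inv Tm := ⟨Tm.inv⟩
instance instPowTm : Pow Tm ℕ := ⟨Tm.pow⟩
instance instOneTm : One Tm := ⟨Tm.one⟩

/-- value of a term in a group -/
def eval {G : Type*} [Group G] (f : ℕ → G) : Tm → G
  | one => 1
  | gen i => f i
  | mul a b => eval f a * eval f b
  | inv a => (eval f a)⁻¹
  | pow a k => eval f a ^ k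

section
variable {G : Type*} [Group G] (f : ℕ → G)
@[simp] theorem eval_one : eval f 1 = 1 := rfl
@[simp] theorem eval_one' : eval f one = 1 := rfl
@[simp] theorem eval_gen (i : ℕ) : eval f (gen i) = f i := rfl
@[simp] theorem eval_mul (a b : Tm) : eval f (a * b) = eval f a * eval f b := rfl
@[simp] theorem eval_mul' (a b : Tm) : eval f (mul a b) = eval f a * eval f b := rfl
@[simp] theorem eval_inv (a : Tm) : eval f a⁻¹ = (eval f a)⁻¹ := rfl
@[simp] theorem eval_inv' (a : Tm) : eval f (inv a) = (eval f a)⁻¹ := rfl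
@[simp] theorem eval_pow (a : Tm) (k : ℕ) : eval f (a ^ k) = eval f a ^ k := rfl
@[simp] theorem eval_pow' (a : Tm) (k : ℕ) : eval f (pow a k) = eval f a ^ k := rfl

theorem map_eval {H F : Type*} [Group H] [FunLike F G H] [MonoidHomClass F G H] (φ : F) (t : Tm) :
    φ (eval f t) = eval (fun i => φ (f i)) t := by
  induction t with
  | one => simp
  | gen i => simp
  | mul a b iha ihb => simp [iha, ihb]
  | inv a ih => simp [ih]
  | pow a k ih => simp [ih]

theorem eval_mem (K : Subgroup G) (hf : ∀ i, f i ∈ K) (t : Tm) : eval f t ∈ K := by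
  induction t with
  | one => exact K.one_mem
  | gen i => exact hf i
  | mul a b iha ihb => exact K.mul_mem iha ihb
  | inv a ih => exact K.inv_mem ih
  | pow a k ih => exact K.pow_mem ih k
end

/-- value of a term on codes; `g i`, `gi i` are codes of the `i`-th generator and of its inverse.
The boolean argument asks for the inverse. -/
noncomputable def evalB (mul : ℕ → ℕ → ℕ) (one : ℕ) (g gi : ℕ → ℕ) (t : Tm) : Bool → ℕ :=
  Tm.rec (motive := fun _ => Bool → ℕ) (fun _ => one)
    (fun i b => Bool.rec (motive := fun _ => ℕ) (g i) (gi i) b)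
    (fun _ _ iha ihb b => Bool.rec (motive := fun _ => ℕ) (mul (iha false) (ihb false))
      (mul (ihb true) (iha true)) b)
    (fun _ ih b => Bool.rec (motive := fun _ => ℕ) (ih true) (ih false) b)
    (fun _ k ih b => powC mul one (ih b) k) t

/-- value of a term on codes -/
noncomputable def evalC (mul : ℕ → ℕ → ℕ) (one : ℕ) (g gi : ℕ → ℕ) (t : Tm) : ℕ :=
  evalB mul one g gi t false

end Tm

/-- product of the codes `g i` along a list of indices, starting from `a` -/
noncomputable def wordC (mul : ℕ → ℕ → ℕ) (g : ℕ → ℕ) (w : List ℕ) : ℕ → ℕ :=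
  List.rec (motive := fun _ => ℕ → ℕ) (fun a => a) (fun i _ ih a => ih (mul a (g i))) w

/-- all terms of a list evaluate to the code `one` -/
noncomputable def checkRels (mul : ℕ → ℕ → ℕ) (one : ℕ) (g gi : ℕ → ℕ) (l : List Tm) : Bool :=
  List.rec (motive := fun _ => Bool) true (fun t _ ih =>
    Bool.rec (motive := fun _ => Bool) false ih (Nat.beq (Tm.evalC mul one g gi t) one)) l

namespace IsRep
section Monoid
variable {G : Type*} [Monoid G] {mul : ℕ → ℕ → ℕ} {one : ℕ} {R : ℕ → G → Prop}

theorem eq_of_beq (h : IsRep mul one R) {a b : ℕ} {g g' : G} (ha : R a g) (hb : R b g')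
    (e : Nat.beq a b = true) : g = g' := by
  rw [Nat.eq_of_beq_eq_true e] at ha
  exact h.uniq ha hb

theorem eq_one (h : IsRep mul one R) {a : ℕ} {g : G} (ha : R a g) (e : Nat.beq a one = true) :
    g = 1 := h.eq_of_beq ha h.one e

theorem powAux (h : IsRep mul one R) {a : ℕ} {g : G} (ha : R a g) :
    ∀ f k : ℕ, k < 2 ^ f → R (powAux mul one a f k) (g ^ k) := by
  intro f
  induction f with
  | zero =>
    intro k hk
    obtain rfl : k = 0 := by simpa using hk
    rw [pow_zero]; exact h.one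
  | succ f ih =>
    intro k hk
    have e : CGM.powAux mul one a (f + 1) k = Bool.rec (motive := fun _ => ℕ)
      (Bool.rec (motive := fun _ => ℕ)
        (Bool.rec (motive := fun _ => ℕ)
          (mul (mul (CGM.powAux mul one a f (k / 2)) (CGM.powAux mul one a f (k / 2))) a)
          (mul (CGM.powAux mul one a f (k / 2)) (CGM.powAux mul one a f (k / 2)))
          (Nat.beq (k % 2) 0))
        a (Nat.beq k 1))
      one (Nat.beq k 0) := rfl
    rw [e]
    have hx := ih (k / 2) (by rw [pow_succ] at hk; omega)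
    cases h0 : Nat.beq k 0
    · cases h1 : Nat.beq k 1
      · cases h2 : Nat.beq (k % 2) 0
        · have h3 : k % 2 ≠ 0 := Nat.ne_of_beq_eq_false h2
          have e2 : g ^ k = g ^ (k / 2) * g ^ (k / 2) * g := by
            rw [← pow_add, ← pow_succ]; congr 1; omega
          rw [e2]; exact h.mul (h.mul hx hx) ha
        · have h3 : k % 2 = 0 := Nat.eq_of_beq_eq_true h2
          have e2 : g ^ k = g ^ (k / 2) * g ^ (k / 2) := by
            rw [← pow_add]; congr 1; omega
          rw [e2]; exact h.mul hx hx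
      · rw [Nat.eq_of_beq_eq_true h1, pow_one]; exact ha
    · rw [Nat.eq_of_beq_eq_true h0, pow_zero]; exact h.one

theorem powC (h : IsRep mul one R) {a : ℕ} {g : G} (ha : R a g) (k : ℕ) :
    R (powC mul one a k) (g ^ k) :=
  h.powAux ha _ k Nat.lt_log2_self

theorem wordC (h : IsRep mul one R) {g : ℕ → ℕ} {f : ℕ → G} (w : List ℕ)
    (hg : ∀ i ∈ w, R (g i) (f i)) {a : ℕ} {x : G} (ha : R a x) :
    R (wordC mul g w a) (x * (w.map f).prod) := by
  induction w generalizing a x with
  | nil => rw [List.map_nil, List.prod_nil, mul_one]; exact ha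
  | cons i w ih =>
    rw [List.map_cons, List.prod_cons, ← mul_assoc]
    exact ih (fun j hj => hg j (List.mem_cons_of_mem _ hj))
      (h.mul ha (hg i List.mem_cons_self))

/-- a representation of `G` restricts to any monoid mapping injectively to `G` -/
theorem comap (h : IsRep mul one R) {H : Type*} [Monoid H] (φ : H →* G)
    (hφ : Function.Injective φ) : IsRep mul one (fun c x => R c (φ x)) where
  one := by rw [map_one]; exact h.one
  mul ha hb := by rw [map_mul]; exact h.mul ha hb
  uniq ha hb := hφ (h.uniq ha hb)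

/-- a representation of `G` gives one of any image of `G` -/
theorem map (h : IsRep mul one R) {H : Type*} [Monoid H] (φ : G →* H) :
    IsRep mul one (fun c y => ∃ x, R c x ∧ φ x = y) where
  one := ⟨1, h.one, map_one φ⟩
  mul := by
    rintro a b _ _ ⟨x, hx, rfl⟩ ⟨y, hy, rfl⟩
    exact ⟨x * y, h.mul hx hy, map_mul φ x y⟩
  uniq := by
    rintro a _ _ ⟨x, hx, rfl⟩ ⟨y, hy, rfl⟩
    rw [h.uniq hx hy]

/-- the representation of the units -/
theorem units (h : IsRep mul one R) : IsRep mul one (fun c (u : Gˣ) => R c (u : G)) :=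
  h.comap (Units.coeHom G) Units.val_injective

end Monoid

variable {G : Type*} [Group G] {mul : ℕ → ℕ → ℕ} {one : ℕ} {R : ℕ → G → Prop}

theorem inv_of_mul (h : IsRep mul one R) {a b : ℕ} {g g' : G} (ha : R a g) (hb : R b g')
    (e : Nat.beq (mul a b) one = true) : R b g⁻¹ := by
  have := h.eq_one (h.mul ha hb) e
  rwa [inv_eq_of_mul_eq_one_right this]

theorem evalB (h : IsRep mul one R) {g gi : ℕ → ℕ} {f : ℕ → G} (hg : ∀ i, R (g i) (f i))
    (hgi : ∀ i, R (gi i) (f i)⁻¹) (t : Tm) :
    R (Tm.evalB mul one g gi t false) (t.eval f) ∧ R (Tm.evalB mul one g gi t true) (t.eval f)⁻¹ := by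
  induction t with
  | one => exact ⟨h.one, by rw [Tm.eval_one', inv_one]; exact h.one⟩
  | gen i => exact ⟨hg i, hgi i⟩
  | mul a b iha ihb =>
    exact ⟨h.mul iha.1 ihb.1, by rw [Tm.eval_mul', mul_inv_rev]; exact h.mul ihb.2 iha.2⟩
  | inv a ih => exact ⟨ih.2, by rw [Tm.eval_inv', inv_inv]; exact ih.1⟩
  | pow a k ih => exact ⟨h.powC ih.1 k, by rw [Tm.eval_pow', ← inv_pow]; exact h.powC ih.2 k⟩

theorem evalC (h : IsRep mul one R) {g gi : ℕ → ℕ} {f : ℕ → G} (hg : ∀ i, R (g i) (f i))
    (hgi : ∀ i, R (gi i) (f i)⁻¹) (t : Tm) : R (Tm.evalC mul one g gi t) (t.eval f) :=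
  (h.evalB hg hgi t).1

theorem eval_eq_one (h : IsRep mul one R) {g gi : ℕ → ℕ} {f : ℕ → G} (hg : ∀ i, R (g i) (f i))
    (hgi : ∀ i, R (gi i) (f i)⁻¹) (t : Tm) (e : Nat.beq (Tm.evalC mul one g gi t) one = true) :
    t.eval f = 1 := h.eq_one (h.evalC hg hgi t) e

theorem eval_eq (h : IsRep mul one R) {g gi : ℕ → ℕ} {f : ℕ → G} (hg : ∀ i, R (g i) (f i))
    (hgi : ∀ i, R (gi i) (f i)⁻¹) (t u : Tm)
    (e : Nat.beq (Tm.evalC mul one g gi t) (Tm.evalC mul one g gi u) = true) :
    t.eval f = u.eval f := h.eq_of_beq (h.evalC hg hgi t) (h.evalC hg hgi u) e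

theorem checkRels (h : IsRep mul one R) {g gi : ℕ → ℕ} {f : ℕ → G} (hg : ∀ i, R (g i) (f i))
    (hgi : ∀ i, R (gi i) (f i)⁻¹) (l : List Tm) (e : checkRels mul one g gi l = true) :
    ∀ t ∈ l, t.eval f = 1 := by
  induction l with
  | nil => simp
  | cons t l ih =>
    have e' : Bool.rec (motive := fun _ => Bool) false (CGM.checkRels mul one g gi l)
      (Nat.beq (Tm.evalC mul one g gi t) one) = true := e
    cases h1 : Nat.beq (Tm.evalC mul one g gi t) one
    · rw [h1] at e'; exact absurd e' (by simp)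
    · rw [h1] at e'
      intro u hu
      rcases List.mem_cons.1 hu with rfl | hu
      · exact h.eval_eq_one hg hgi _ h1
      · exact ih e' u hu

/-- generators given by lists: `R (nth gs i) (fs.getD i 1)` for all `i` needs care beyond the end of
the list; `nthD` defaults to the code `one`. -/
theorem getD (h : IsRep mul one R) {gs : List ℕ} {fs : List G}
    (hl : List.Forall₂ R gs fs) (i : ℕ) : R (gs.getD i one) (fs.getD i 1) := by
  induction hl generalizing i with
  | nil => simpa using h.one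
  | cons hab _ ih => cases i with
    | zero => simpa using hab
    | succ i => simpa using ih i

end IsRep

/-! ### Packed matrices as representations -/

/-- `c` codes the matrix `M` over `ZMod 2` -/
def R2 (n : ℕ) (c : ℕ) (M : Matrix (Fin n) (Fin n) (ZMod 2)) : Prop := toMat (ZMod 2) n n 1 c = M

/-- multiplication of square packed matrices over `ZMod 2` -/
noncomputable def mulSq2 (n : ℕ) : ℕ → ℕ → ℕ := mul2 n (rep n n) (Nat.sub (Nat.pow 2 n) 1)

theorem isRep_R2 {n : ℕ} (hn : 0 < n) : IsRep (mulSq2 n) (idCode n 1) (R2 n) where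
  one := toMat_idCode _ one_pos
  mul := by
    rintro a b _ _ rfl rfl
    exact toMat_mul2 hn a b
  uniq := by
    rintro a _ _ rfl rfl
    rfl

/-- `c` codes the square matrix `M` over `ZMod p` -/
def PCtx.RP (c : PCtx) (x : ℕ) (M : Matrix (Fin c.n) (Fin c.n) (ZMod c.p)) : Prop :=
  c.Ok x ∧ toMat (ZMod c.p) c.n c.n c.w x = M

theorem PCtx.isRep_RP {c : PCtx} (h : c.Good) (hm : c.m = c.n) :
    IsRep c.mul (idCode c.n c.w) c.RP where
  one := ⟨PCtx.ok_idCode h, toMat_idCode _ h.1⟩
  mul := by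
    rintro a b _ _ ⟨ha, rfl⟩ ⟨hb, rfl⟩
    refine ⟨PCtx.ok_mul h _ _, ?_⟩
    obtain ⟨p, n, m, w, a', b', mu, s⟩ := c
    obtain rfl : m = n := hm
    exact PCtx.toMat_mul h ha hb
  uniq := by
    rintro a _ _ ⟨_, rfl⟩ ⟨_, rfl⟩
    rfl

/-- distinct canonical codes give distinct matrices over `ZMod 2` -/
theorem R2_ne {n : ℕ} (hn : 0 < n) {a b : ℕ} {A B : Matrix (Fin n) (Fin n) (ZMod 2)}
    (ha : R2 n a A) (hb : R2 n b B) (ha' : a < 2 ^ (n * n)) (hb' : b < 2 ^ (n * n))
    (e : Nat.beq a b = false) : A ≠ B := by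
  intro h
  apply Nat.ne_of_beq_eq_false e
  apply eq_of_toMat_eq (p := 2) (m := n) (n := n) one_pos hn (by rwa [one_mul]) (by rwa [one_mul])
    (fun i => fld_lt 1 a i) (fun i => fld_lt 1 b i)
  rw [ha, hb, h]

theorem PCtx.RP_ne {c : PCtx} (h : c.Good) (hm : c.m = c.n) (haw : c.a < c.w) {a b : ℕ}
    {A B : Matrix (Fin c.n) (Fin c.n) (ZMod c.p)} (ha : c.RP a A) (hb : c.RP b B)
    (ha' : c.canonb a = true) (hb' : c.canonb b = true) (e : Nat.beq a b = false) : A ≠ B := by
  intro hAB
  apply Nat.ne_of_beq_eq_false e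
  apply PCtx.eq_of_canonb h haw ha' hb'
  obtain ⟨p, n, m, w, a', b', mu, s⟩ := c
  obtain rfl : m = n := hm
  exact ha.2.trans (hAB.trans hb.2.symm)

theorem PCtx.RP_of_okb {c : PCtx} (h : c.Good) {x : ℕ} (hx : c.okb x = true) :
    c.RP x (toMat (ZMod c.p) c.n c.n c.w x) := ⟨PCtx.ok_of_okb h hx, rfl⟩

/-- a unit of a matrix ring from the codes of a matrix and of its inverse -/
noncomputable def IsRep.mkUnit {ι K : Type*} [Fintype ι] [DecidableEq ι] [CommRing K]
    {mul : ℕ → ℕ → ℕ} {one : ℕ} {R : ℕ → Matrix ι ι K → Prop} (h : IsRep mul one R) {a b : ℕ}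
    {A B : Matrix ι ι K} (ha : R a A) (hb : R b B) (e : Nat.beq (mul a b) one = true) :
    GL ι K :=
  ⟨A, B, h.eq_one (h.mul ha hb) e, mul_eq_one_comm.1 (h.eq_one (h.mul ha hb) e)⟩

/-- Existence of invertible matrices for a list of pairs of codes (matrix, inverse). -/
theorem IsRep.exists_units {ι K : Type*} [Fintype ι] [DecidableEq ι] [CommRing K]
    {mul : ℕ → ℕ → ℕ} {one : ℕ} {R : ℕ → Matrix ι ι K → Prop} (h : IsRep mul one R)
    {g gi : ℕ → ℕ} (hg : ∀ i, ∃ A, R (g i) A) (hgi : ∀ i, ∃ B, R (gi i) B)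
    (e : ∀ i, Nat.beq (mul (g i) (gi i)) one = true) :
    ∃ f : ℕ → GL ι K, (∀ i, R (g i) (f i : Matrix ι ι K)) ∧
      ∀ i, R (gi i) ((f i)⁻¹ : GL ι K) := by
  choose A hA using hg
  choose B hB using hgi
  exact ⟨fun i => h.mkUnit (hA i) (hB i) (e i), hA, hB⟩

/-! ### Orders of elements, presented groups -/

theorem orderOf_eq_of_primes {G : Type*} [Monoid G] {g : G} {n : ℕ} (hn : 0 < n) (h1 : g ^ n = 1)
    (l : List ℕ) (hl : ∀ q, q.Prime → q ∣ n → q ∈ l) (h2 : ∀ q ∈ l, g ^ (n / q) ≠ 1) :
    orderOf g = n :=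
  orderOf_eq_of_pow_and_pow_div_prime hn h1 (fun q hq hd => h2 q (hl q hq hd))

/-- Relators given as terms in the free generators: if `rels` is (as a set) contained in the values
of a list of terms at `FreeGroup.of ∘ e`, and these terms vanish at `f ∘ e`, all relators vanish. -/
theorem lift_eq_one_of_terms {α G : Type*} [Group G] (f : α → G) (e : ℕ → α) (l : List Tm)
    (hl : ∀ t ∈ l, t.eval (fun i => f (e i)) = 1) {r : FreeGroup α}
    (hr : r ∈ l.map (Tm.eval (fun i => FreeGroup.of (e i)))) : FreeGroup.lift f r = 1 := by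
  obtain ⟨t, ht, rfl⟩ := List.mem_map.1 hr
  rw [Tm.map_eval]
  simpa using hl t ht

/-- homomorphism out of a group given in the Coxeter-graph convention of `Def_SporCoxeter` -/
theorem exists_hom_coxPresented {α G : Type*} [DecidableEq α] [Group G]
    (edges : List (α × ℕ × α)) (extra : List (FreeGroup α)) (f : α → G)
    (h1 : ∀ x ∈ Cfsg.Spor.coxNodes edges, ∀ y ∈ Cfsg.Spor.coxNodes edges,
      (f x * f y) ^ Cfsg.Spor.coxLabel edges x y = 1)
    (h2 : ∀ r ∈ extra, FreeGroup.lift f r = 1) :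
    ∃ φ : Cfsg.Spor.CoxPresented α edges extra →* G, ∀ x, φ (PresentedGroup.of x) = f x := by
  have h : ∀ r ∈ Cfsg.Spor.coxRelators edges ∪ {r | r ∈ extra}, FreeGroup.lift f r = 1 := by
    rintro r (⟨x, hx, y, hy, rfl⟩ | hr)
    · simpa using h1 x hx y hy
    · exact h2 r hr
  exact ⟨PresentedGroup.toGroup h, fun x => PresentedGroup.toGroup.of h⟩

/-- the relators hold in the presented group -/
theorem coxPresented_extra {α : Type*} [DecidableEq α] (edges : List (α × ℕ × α))
    (extra : List (FreeGroup α)) {r : FreeGroup α} (hr : r ∈ extra) :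
    FreeGroup.lift (fun x => (PresentedGroup.of x : Cfsg.Spor.CoxPresented α edges extra)) r = 1 := by
  have : FreeGroup.lift (fun x => (PresentedGroup.of x : Cfsg.Spor.CoxPresented α edges extra)) =
      PresentedGroup.mk _ := by
    ext x; simp [PresentedGroup.of]
  rw [this]
  exact PresentedGroup.one_of_mem (Or.inr hr)

end CGM
end CL
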