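import Cfsg.Agent.CGM.Vec

/-!
Convenience layer for towers of `Lev` certificates: elements named by their codes (`el`),
the group `grp R L` generated by the generators of a level, exact orders from vector or line keys.
-/

set_option autoImplicit false

namespace CL
namespace CGM

open Matrix

section El
variable {G : Type*} [Group G] {mul : ℕ → ℕ → ℕ} {one : ℕ} {R : ℕ → G → Prop}

open Classical in
/-- the element represented by a code (or `1`) -/
noncomputable def el (R : ℕ → G → Prop) (c : ℕ) : G := if h : ∃ g, R c g then h.choose else 1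

theorem R_el {c : ℕ} (h : ∃ g, R c g) : R c (el R c) := by
  rw [el, dif_pos h]; exact h.choose_spec

theorem IsRep.el_eq (h : IsRep mul one R) {c : ℕ} {g : G} (hg : R c g) : el R c = g :=
  h.uniq (R_el ⟨g, hg⟩) hg

/-- the code `c` represents an element of `K` -/
def InG (R : ℕ → G → Prop) (K : Subgroup G) (c : ℕ) : Prop := ∃ y ∈ K, R c y

theorem InG.ex {K : Subgroup G} {c : ℕ} (h : InG R K c) : ∃ g, R c g := ⟨_, h.choose_spec.2⟩

theorem InG.R_el {K : Subgroup G} {c : ℕ} (h : InG R K c) : R c (el R c) := CGM.R_el h.ex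

theorem InG.mono {K K' : Subgroup G} {c : ℕ} (h : InG R K c) (hK : K ≤ K') : InG R K' c :=
  let ⟨y, h1, h2⟩ := h; ⟨y, hK h1, h2⟩

theorem InG.mem (h : IsRep mul one R) {K : Subgroup G} {c : ℕ} (hc : InG R K c) {g : G}
    (hg : R c g) : g ∈ K := by
  obtain ⟨y, h1, h2⟩ := hc
  rw [h.uniq hg h2]; exact h1

theorem InG.el_mem (h : IsRep mul one R) {K : Subgroup G} {c : ℕ} (hc : InG R K c) :
    el R c ∈ K := hc.mem h hc.R_el

theorem InG.mul' (h : IsRep mul one R) {K : Subgroup G} {a b : ℕ} (ha : InG R K a)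
    (hb : InG R K b) : InG R K (mul a b) :=
  let ⟨x, h1, h2⟩ := ha; let ⟨y, h3, h4⟩ := hb; ⟨x * y, K.mul_mem h1 h3, h.mul h2 h4⟩

theorem InG.of_beq {K : Subgroup G} {a b : ℕ} (ha : InG R K a) (e : Nat.beq a b = true) :
    InG R K b := Nat.eq_of_beq_eq_true e ▸ ha

theorem InG.word (h : IsRep mul one R) {K : Subgroup G} {gs : ℕ → ℕ} (hg : ∀ i, InG R K (gs i))
    (w : List ℕ) : ∀ {a : ℕ}, InG R K a → InG R K (wordC mul gs w a) := by
  induction w with
  | nil => exact fun ha => ha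
  | cons i w ih => exact fun ha => ih (ha.mul' h (hg i))

theorem InG.of_word (h : IsRep mul one R) {K : Subgroup G} {gs : ℕ → ℕ}
    (hg : ∀ i, InG R K (gs i)) (w : List ℕ) {c : ℕ}
    (e : Nat.beq (wordC mul gs w one) c = true) : InG R K c :=
  (InG.word h hg w ⟨1, K.one_mem, h.one⟩).of_beq e

theorem InG.fn2 {K : Subgroup G} {a b : ℕ} (ha : InG R K a) (hb : InG R K b) (i : ℕ) :
    InG R K (fn2 a b i) := by
  cases i
  · exact ha
  · exact hb

theorem InG.fn3 {K : Subgroup G} {a b c : ℕ} (ha : InG R K a) (hb : InG R K b) (hc : InG R K c)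
    (i : ℕ) : InG R K (fn3 a b c i) := by
  cases i
  · exact ha
  · exact InG.fn2 hb hc _

theorem InG.fn4 {K : Subgroup G} {a b c e : ℕ} (ha : InG R K a) (hb : InG R K b) (hc : InG R K c)
    (he : InG R K e) (i : ℕ) : InG R K (fn4 a b c e i) := by
  cases i
  · exact ha
  · exact InG.fn3 hb hc he _

/-- the group generated by the elements coded by `gs 0, …, gs (n - 1)` -/
noncomputable def genC (R : ℕ → G → Prop) (gs : ℕ → ℕ) (n : ℕ) : Subgroup G :=
  gen (fun i => el R (gs i)) n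

theorem inG_genC {gs : ℕ → ℕ} {n i : ℕ} (hi : i < n) (h : ∃ g, R (gs i) g) :
    InG R (genC R gs n) (gs i) := ⟨_, mem_gen (fun i => el R (gs i)) hi, R_el h⟩

theorem inG_genC2 {a b : ℕ} (ha : ∃ g, R a g) (hb : ∃ g, R b g) (i : ℕ) :
    InG R (genC R (fn2 a b) 2) (fn2 a b i) :=
  InG.fn2 (inG_genC (gs := fn2 a b) (i := 0) (by norm_num) ha)
    (inG_genC (gs := fn2 a b) (i := 1) (by norm_num) hb) i

theorem inG_genC3 {a b c : ℕ} (ha : ∃ g, R a g) (hb : ∃ g, R b g) (hc : ∃ g, R c g) (i : ℕ) :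
    InG R (genC R (fn3 a b c) 3) (fn3 a b c i) :=
  InG.fn3 (inG_genC (gs := fn3 a b c) (i := 0) (by norm_num) ha)
    (inG_genC (gs := fn3 a b c) (i := 1) (by norm_num) hb)
    (inG_genC (gs := fn3 a b c) (i := 2) (by norm_num) hc) i

theorem genC_le (h : IsRep mul one R) {gs : ℕ → ℕ} {n : ℕ} {K : Subgroup G}
    (hg : ∀ i < n, InG R K (gs i)) : genC R gs n ≤ K :=
  gen_le.2 fun i hi => (hg i hi).el_mem h

/-- all checks of a bottom level -/
structure Lev.Ok0 (L : Lev) (mul : ℕ → ℕ → ℕ) (one : ℕ) : Prop where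
  pos : 0 < L.N
  nspos : 0 < L.ns
  tree : ∀ j < L.N, L.checkTree mul one j = true
  cov : ∀ q < L.N * L.ns, L.checkCov0 mul q = true

/-- all checks of a level above the enumeration `hel` -/
structure Lev.Ok (L : Lev) (mul : ℕ → ℕ → ℕ) (one : ℕ) (hel : ℕ → ℕ) : Prop where
  pos : 0 < L.N
  nspos : 0 < L.ns
  tree : ∀ j < L.N, L.checkTree mul one j = true
  cov : ∀ q < L.N * L.ns, L.checkCov mul hel q = true

/-- enumeration of the elements at the bottom level -/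
def Lev.kel0 (L : Lev) (x : ℕ) : ℕ := L.T (Nat.mod x L.N)

theorem Lev.Ok0.cover [Finite G] (h : IsRep mul one R) {L : Lev} (hL : L.Ok0 mul one)
    (hgs : ∀ i < L.ns, ∃ g, R (L.gs i) g) : ∃ t, Cover R L (fun i => el R (L.gs i)) ⊥ t :=
  L.cover0 h (fun i hi => R_el (hgs i hi)) (fun _ _ => isOfFinOrder_of_finite _) hL.pos hL.nspos
    hL.tree hL.cov

theorem Lev.Ok.cover [Finite G] (h : IsRep mul one R) {L : Lev} {hel : ℕ → ℕ}
    (hL : L.Ok mul one hel) (hgs : ∀ i < L.ns, ∃ g, R (L.gs i) g) {H : Subgroup G}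
    (hhel : ∀ x, InG R H (hel x)) : ∃ t, Cover R L (fun i => el R (L.gs i)) H t :=
  L.cover h (fun i hi => R_el (hgs i hi)) (fun _ _ => isOfFinOrder_of_finite _) hhel hL.pos
    hL.nspos hL.tree hL.cov

end El

section Blow
variable {F ι : Type*} [Field F] [Fintype ι] [DecidableEq ι] {d : ℕ}
  {φ : ZMod 2 →+* F} {U : Matrix (Fin d) ι F} {G : Type*} [Group G] {ρ : G →* Matrix ι ι F}

theorem Blow.vecOf_surj (h : Blow φ U) (hc : Nat.card (ι → F) = 2 ^ d) (v : ι → F) :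
    ∃ x < 2 ^ d, vecOf φ U x = v := by
  have : Finite (ι → F) := Nat.finite_of_card_ne_zero (by rw [hc]; positivity)
  have h1 : Function.Injective (fun x : Fin (2 ^ d) => vecOf φ U x) :=
    fun a b e => Fin.ext (h.vecOf_inj a.2 b.2 e)
  obtain ⟨x, hx⟩ := (h1.bijective_of_nat_card_le (by rw [hc, Nat.card_fin])).2 v
  exact ⟨x, x.2, hx⟩

theorem vecOf_zero : vecOf φ U 0 = 0 := by
  have : (fun j : Fin d => φ (ent (ZMod 2) d 1 0 0 j)) = 0 := by ext j; simp [ent]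
  rw [vecOf, this, zero_vecMul]

/-- exact order from the images of a vector fixed by `H` -/
theorem Blow.card_eq_vkey (h : Blow φ U) {L : Lev} {f t : ℕ → G} {H : Subgroup G}
    (c : Cover (fun c g => RB φ U c (ρ g)) L f H t) (hHK : H ≤ gen f L.ns) {x : ℕ}
    (hx : H ≤ vstab ρ (vecOf φ U x)) {σ : ℕ → ℕ}
    (hk : ∀ i < L.N, L.checkKey (vmul d x) σ i = true) :
    Nat.card (gen f L.ns) = L.N * Nat.card H :=
  c.card_eq hHK fun i hi j hj e => L.key_inj hk i hi j hj (h.vkey (c.rep i hi) (c.rep j hj) (hx e))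

theorem Blow.genC_le_vstab (h : Blow φ U) {gs : ℕ → ℕ} {n x : ℕ}
    (hg : ∀ i < n, ∃ g, RB φ U (gs i) (ρ g))
    (e : ∀ i < n, Nat.beq (vmul d x (gs i)) x = true) :
    genC (fun c g => RB φ U c (ρ g)) gs n ≤ vstab ρ (vecOf φ U x) :=
  gen_le.2 fun i hi => h.mem_vstab (R_el (R := fun c g => RB φ U c (ρ g)) (hg i hi)) (e i hi)

/-- with distinct vector keys the stabiliser of the vector in `K` is exactly `H` -/
theorem Blow.mem_of_vstab (h : Blow φ U) {L : Lev} {f t : ℕ → G} {H : Subgroup G}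
    (c : Cover (fun c g => RB φ U c (ρ g)) L f H t) {x : ℕ}
    (hx : H ≤ vstab ρ (vecOf φ U x)) {σ : ℕ → ℕ}
    (hk : ∀ i < L.N, L.checkKey (vmul d x) σ i = true) {g : G} (hg : g ∈ gen f L.ns)
    (hv : g ∈ vstab ρ (vecOf φ U x)) : g ∈ H := by
  obtain ⟨j, hj, h1⟩ := c.cov g hg
  have h2 : t j * (t 0)⁻¹ ∈ vstab ρ (vecOf φ U x) := by
    have : t j * (t 0)⁻¹ = (g * (t j)⁻¹)⁻¹ * g := by rw [c.zero]; group
    rw [this]; exact mul_mem (inv_mem (hx h1)) hv
  have h3 := L.key_inj hk j hj 0 c.pos (h.vkey (c.rep j hj) (c.rep 0 c.pos) h2)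
  rwa [h3, c.zero, inv_one, mul_one] at h1

/-- a two-step tower `1 < genC L2 < genC L1` with vector keys -/
theorem Blow.tower2 [Finite G] (h : Blow φ U) (hρ : Function.Injective ρ) {L1 L2 : Lev}
    (o2 : L2.Ok0 (mulSq2 d) (idCode d 1)) (o1 : L1.Ok (mulSq2 d) (idCode d 1) L2.kel0)
    (hg1 : ∀ i < L1.ns, ∃ g, RB φ U (L1.gs i) (ρ g))
    (hg2 : ∀ i < L2.ns, InG (fun c g => RB φ U c (ρ g))
      (genC (fun c g => RB φ U c (ρ g)) L1.gs L1.ns) (L2.gs i))
    {x0 x1 : ℕ} {σ1 σ2 : ℕ → ℕ} (hx : ∀ i < L2.ns, Nat.beq (vmul d x0 (L2.gs i)) x0 = true)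
    (k1 : ∀ i < L1.N, L1.checkKey (vmul d x0) σ1 i = true)
    (k2 : ∀ i < L2.N, L2.checkKey (vmul d x1) σ2 i = true) :
    Nat.card (genC (fun c g => RB φ U c (ρ g)) L1.gs L1.ns) = L1.N * L2.N ∧
      (∀ x, InG (fun c g => RB φ U c (ρ g)) (genC (fun c g => RB φ U c (ρ g)) L1.gs L1.ns)
        (L1.kel (mulSq2 d) L2.kel0 x)) ∧
      ∀ y ∈ genC (fun c g => RB φ U c (ρ g)) L1.gs L1.ns, ∃ x < L2.N * L1.N,
        RB φ U (L1.kel (mulSq2 d) L2.kel0 x) (ρ y) := by
  have hr := h.isRepHom ρ hρ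
  obtain ⟨t2, c2⟩ := o2.cover hr (fun i hi => (hg2 i hi).ex)
  obtain ⟨t1, c1⟩ := o1.cover hr hg1 c2.kel0_mem
  have hle := genC_le hr hg2
  refine ⟨?_, c1.kel_mem hr hle c2.kel0_mem, c1.kel_surj hr c2.kel0_surj⟩
  have e1 := h.card_eq_vkey c1 hle (h.genC_le_vstab (fun i hi => (hg2 i hi).ex) hx) k1
  have e2 := h.card_eq_vkey c2 bot_le bot_le k2
  rw [Subgroup.card_bot, mul_one] at e2
  exact e1.trans (congrArg _ e2)

end Blow

end CGM
end CL
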