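import Cfsg.Agent.CGM.Chain

/-!
Matrices over a field `F` of characteristic two coded by packed matrices over `ZMod 2`
("blow-up" along a matrix `U` whose rows are an `𝔽₂`-basis of the row space), the action on coded
row vectors, stabilisers of vectors and lines, orbit certificates for vectors, and the
permutation representation on the cosets of a subgroup of a simple group.
-/

set_option autoImplicit false

namespace CL
namespace CGM

open Matrix

section Stab
variable {G F ι : Type*} [Group G] [Field F] [Fintype ι] [DecidableEq ι]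

/-- stabiliser of a row vector -/
def vstab (ρ : G →* Matrix ι ι F) (v : ι → F) : Subgroup G where
  carrier := {g | v ᵥ* ρ g = v}
  one_mem' := by simp
  mul_mem' {a b} ha hb := by
    show v ᵥ* ρ (a * b) = v
    rw [map_mul, ← vecMul_vecMul, ha, hb]
  inv_mem' {a} ha := by
    show v ᵥ* ρ a⁻¹ = v
    conv_lhs => rw [← ha]
    rw [vecMul_vecMul, ← map_mul, mul_inv_cancel, map_one, vecMul_one]

theorem mem_vstab {ρ : G →* Matrix ι ι F} {v : ι → F} {g : G} : g ∈ vstab ρ v ↔ v ᵥ* ρ g = v :=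
  Iff.rfl

/-- stabiliser of the line spanned by a row vector -/
def lstab (ρ : G →* Matrix ι ι F) (v : ι → F) : Subgroup G where
  carrier := {g | ∃ c : F, c ≠ 0 ∧ v ᵥ* ρ g = c • v}
  one_mem' := ⟨1, one_ne_zero, by simp⟩
  mul_mem' := by
    rintro a b ⟨c, hc, ha⟩ ⟨e, he, hb⟩
    refine ⟨c * e, mul_ne_zero hc he, ?_⟩
    rw [map_mul, ← vecMul_vecMul, ha, smul_vecMul, hb, smul_smul]
  inv_mem' := by
    rintro a ⟨c, hc, ha⟩
    refine ⟨c⁻¹, inv_ne_zero hc, ?_⟩
    have : v = c⁻¹ • (v ᵥ* ρ a) := by rw [ha, smul_smul, inv_mul_cancel₀ hc, one_smul]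
    conv_lhs => rw [this]
    rw [smul_vecMul, vecMul_vecMul, ← map_mul, mul_inv_cancel, map_one, vecMul_one]

theorem mem_lstab {ρ : G →* Matrix ι ι F} {v : ι → F} {g : G} :
    g ∈ lstab ρ v ↔ ∃ c : F, c ≠ 0 ∧ v ᵥ* ρ g = c • v := Iff.rfl

theorem vecMul_eq_of_vstab {ρ : G →* Matrix ι ι F} {v : ι → F} {g g' : G}
    (h : g * g'⁻¹ ∈ vstab ρ v) : v ᵥ* ρ g = v ᵥ* ρ g' := by
  have : g = (g * g'⁻¹) * g' := by group
  rw [this, map_mul, ← vecMul_vecMul, h]

theorem vecMul_eq_of_lstab {ρ : G →* Matrix ι ι F} {v : ι → F} {g g' : G}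
    (h : g * g'⁻¹ ∈ lstab ρ v) : ∃ c : F, c ≠ 0 ∧ v ᵥ* ρ g = c • (v ᵥ* ρ g') := by
  obtain ⟨c, hc, h⟩ := h
  refine ⟨c, hc, ?_⟩
  have : g = (g * g'⁻¹) * g' := by group
  rw [this, map_mul, ← vecMul_vecMul, h, smul_vecMul]

theorem conj_mem_vstab {ρ : G →* Matrix ι ι F} {v : ι → F} {n t : G}
    (h : t * n * t⁻¹ ∈ vstab ρ v) : n ∈ vstab ρ (v ᵥ* ρ t) := by
  rw [mem_vstab, vecMul_vecMul, ← map_mul]
  exact vecMul_eq_of_vstab h

theorem conj_mem_lstab {ρ : G →* Matrix ι ι F} {v : ι → F} {n t : G}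
    (h : t * n * t⁻¹ ∈ lstab ρ v) : n ∈ lstab ρ (v ᵥ* ρ t) := by
  obtain ⟨c, hc, h⟩ := vecMul_eq_of_lstab h
  exact ⟨c, hc, by rw [vecMul_vecMul, ← map_mul, h]⟩

theorem lstab_smul {ρ : G →* Matrix ι ι F} {v : ι → F} {c : F} (hc : c ≠ 0) {g : G}
    (h : g ∈ lstab ρ (c • v)) : g ∈ lstab ρ v := by
  obtain ⟨e, he, h⟩ := h
  refine ⟨e, he, ?_⟩
  rw [smul_vecMul, smul_comm] at h
  exact smul_right_injective _ hc h

/-- a matrix fixing the lines of all basis vectors and of a vector without zero coordinate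
is a scalar -/
theorem eq_smul_one_of_lines {M : Matrix ι ι F}
    (h1 : ∀ z, ∃ c : F, (Pi.single z (1 : F) : ι → F) ᵥ* M = c • (Pi.single z (1 : F) : ι → F))
    {u : ι → F} (hu : ∀ z, u z ≠ 0) {e : F} (h2 : u ᵥ* M = e • u) : M = e • (1 : Matrix ι ι F) := by
  choose c hc using h1
  have h3 : M = diagonal c := by
    ext z w
    have := congrFun (hc z) w
    rw [single_one_vecMul] at this
    rw [show M z w = M.row z w from rfl, this, diagonal_apply, Pi.smul_apply, Pi.single_apply]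
    by_cases h : z = w
    · simp [h]
    · simp [h, Ne.symm h]
  have h4 : ∀ z, c z = e := by
    intro z
    have := congrFun h2 z
    rw [h3, vecMul_diagonal, Pi.smul_apply, smul_eq_mul, mul_comm] at this
    exact mul_right_cancel₀ (hu z) this
  rw [h3]
  ext z w
  simp [diagonal_apply, one_apply, h4]

/-- the contragredient representation `g ↦ (g⁻¹)ᵀ` -/
def contra (ι F : Type*) [Field F] [Fintype ι] [DecidableEq ι] : GL ι F →* Matrix ι ι F where
  toFun g := ((g⁻¹ : GL ι F) : Matrix ι ι F)ᵀ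
  map_one' := by simp
  map_mul' a b := by rw [_root_.mul_inv_rev, Units.val_mul, transpose_mul]

theorem contra_apply (g : GL ι F) : contra ι F g = ((g⁻¹ : GL ι F) : Matrix ι ι F)ᵀ := rfl

theorem contra_inv (g : GL ι F) : contra ι F g⁻¹ = (g : Matrix ι ι F)ᵀ := by
  rw [contra_apply, inv_inv]

theorem contra_injective : Function.Injective (contra ι F) := by
  intro a b h
  rw [contra_apply, contra_apply] at h
  exact inv_injective (Units.ext (transpose_injective h))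

theorem vecMul_contra (g : GL ι F) (v : ι → F) :
    v ᵥ* contra ι F g = ((g⁻¹ : GL ι F) : Matrix ι ι F) *ᵥ v := by
  rw [contra_apply, vecMul_transpose]

end Stab

/-- product of a coded row vector with a packed `d × d` matrix over `ZMod 2` -/
noncomputable def vmul (d x c : ℕ) : ℕ := mul2 d 1 (Nat.sub (Nat.pow 2 d) 1) x c

theorem rep_one {d : ℕ} (hd : 0 < d) : rep d 1 = 1 := by
  rw [rep_eq_pack hd]; simp [pack]

theorem vmul_eq {d : ℕ} (hd : 0 < d) (x c : ℕ) : vmul d x c = mul2 d (rep d 1) (2 ^ d - 1) x c := by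
  rw [rep_one hd]; rfl

theorem vmul_lt {d : ℕ} (hd : 0 < d) (x c : ℕ) : vmul d x c < 2 ^ d := by
  have := mul2_lt (m := 1) hd x c
  rwa [mul_one, ← vmul_eq hd] at this

/-- row `i` of a packed matrix over `ZMod 2` -/
def rowC (d c i : ℕ) : ℕ := Nat.land (Nat.shiftRight c (Nat.mul d i)) (Nat.sub (Nat.pow 2 d) 1)

theorem rowC_eq (d c i : ℕ) : rowC d c i = fld d c i := Nat.and_two_pow_sub_one_eq_mod _ _

theorem rowC_lt (d c i : ℕ) : rowC d c i < 2 ^ d := by rw [rowC_eq]; exact fld_lt _ _ _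

/-- minimum of two numbers -/
noncomputable def nmin (a b : ℕ) : ℕ := Bool.rec (motive := fun _ => ℕ) b a (Nat.ble a b)

theorem nmin_eq (a b : ℕ) : nmin a b = min a b := by
  unfold nmin
  cases h : Nat.ble a b
  · have : ¬ a ≤ b := fun h' => by rw [Nat.ble_eq_true_of_le h'] at h; exact absurd h (by simp)
    exact (min_eq_right (Nat.le_of_lt (Nat.lt_of_not_le this))).symm
  · exact (min_eq_left (Nat.le_of_ble_eq_true h)).symm

/-- canonical representative of the line of `u` when the scalars are the powers of `W`, `W ^ 3 = 1` -/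
noncomputable def lkey (d W u : ℕ) : ℕ :=
  (fun u1 => nmin u (nmin u1 (vmul d u1 W))) (vmul d u W)

section Blow
variable {F ι : Type*} [Field F] [Fintype ι] [DecidableEq ι] {d : ℕ}
  (φ : ZMod 2 →+* F) (U : Matrix (Fin d) ι F)

/-- the vector coded by the bits of `x` -/
def vecOf (x : ℕ) : ι → F := (fun j : Fin d => φ (ent (ZMod 2) d 1 x 0 j)) ᵥ* U

/-- the packed `d × d` matrix `c` over `ZMod 2` describes the action of `M` on coded vectors -/
def RB (c : ℕ) (M : Matrix ι ι F) : Prop := (toMat (ZMod 2) d d 1 c).map φ * U = U * M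

/-- the rows of `U` span the row space over `F` and are independent over `ZMod 2` -/
structure Blow : Prop where
  pos : 0 < d
  linv : ∃ V : Matrix ι (Fin d) F, V * U = 1
  inj : ∀ x : Fin d → ZMod 2, (fun j => φ (x j)) ᵥ* U = 0 → x = 0

variable {φ U}

theorem Blow.isRep (h : Blow φ U) : IsRep (mulSq2 d) (idCode d 1) (RB φ U) where
  one := by
    rw [RB, toMat_idCode _ one_pos, Matrix.map_one _ (map_zero φ) (map_one φ), Matrix.one_mul,
      Matrix.mul_one]
  mul {a b M N} ha hb := by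
    have e : toMat (ZMod 2) d d 1 (mulSq2 d a b) = toMat (ZMod 2) d d 1 a * toMat (ZMod 2) d d 1 b :=
      toMat_mul2 h.pos a b
    rw [RB] at ha hb ⊢
    rw [e, Matrix.map_mul, Matrix.mul_assoc, hb, ← Matrix.mul_assoc, ha, Matrix.mul_assoc]
  uniq {a M N} ha hb := by
    obtain ⟨V, hV⟩ := h.linv
    have e : V * (U * M) = V * (U * N) := by rw [← ha, ← hb]
    rwa [← Matrix.mul_assoc, ← Matrix.mul_assoc, hV, Matrix.one_mul, Matrix.one_mul] at e

theorem Blow.isRepHom (h : Blow φ U) {G : Type*} [Monoid G] (ρ : G →* Matrix ι ι F)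
    (hρ : Function.Injective ρ) : IsRep (mulSq2 d) (idCode d 1) (fun c g => RB φ U c (ρ g)) :=
  h.isRep.comap ρ hρ

theorem Blow.vecOf_vmul (h : Blow φ U) {c : ℕ} {M : Matrix ι ι F} (hc : RB φ U c M) (x : ℕ) :
    vecOf φ U (vmul d x c) = vecOf φ U x ᵥ* M := by
  rw [vecOf, vecOf, vecMul_vecMul, ← hc, ← vecMul_vecMul]
  congr 1
  ext j
  rw [vmul_eq h.pos, ent_mul2 h.pos _ _ _ _ j.2, if_pos one_pos,
    ← Fin.sum_univ_eq_sum_range (fun k => ent (ZMod 2) d 1 x 0 k * ent (ZMod 2) d 1 c k j),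
    map_sum]
  simp [vecMul, dotProduct]

theorem vecOf_rowC {c : ℕ} {M : Matrix ι ι F} (hc : RB φ U c M) (i : Fin d) :
    vecOf φ U (rowC d c i) = U i ᵥ* M := by
  have e1 : U i ᵥ* M = (U * M) i := by
    ext j; simp [vecMul, dotProduct, mul_apply]
  rw [e1, ← hc, vecOf]
  ext z
  simp only [vecMul, dotProduct, mul_apply, map_apply, toMat_apply, ent, rowC_eq]
  apply Finset.sum_congr rfl
  intro j _
  have := fld_fld 1 d c i j j.2
  rw [one_mul] at this
  rw [mul_zero, zero_add, this]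

theorem Blow.vecOf_inj (h : Blow φ U) {x y : ℕ} (hx : x < 2 ^ d) (hy : y < 2 ^ d)
    (e : vecOf φ U x = vecOf φ U y) : x = y := by
  have h1 := h.inj (fun j => ent (ZMod 2) d 1 x 0 j - ent (ZMod 2) d 1 y 0 j) (by
    have : (fun j : Fin d => φ (ent (ZMod 2) d 1 x 0 j - ent (ZMod 2) d 1 y 0 j)) =
        (fun j : Fin d => φ (ent (ZMod 2) d 1 x 0 j)) - fun j : Fin d => φ (ent (ZMod 2) d 1 y 0 j) := by
      ext j; simp
    rw [this, sub_vecMul, sub_eq_zero]
    exact e)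
  apply eq_of_toMat_eq (p := 2) (m := 1) (n := d) one_pos h.pos (by simpa using hx)
    (by simpa using hy) (fun i => fld_lt 1 x i) (fun i => fld_lt 1 y i)
  ext i j
  have := congrFun h1 j
  rw [Subsingleton.elim i 0]
  exact sub_eq_zero.1 this

theorem Blow.code_inj (h : Blow φ U) {a b : ℕ} {M : Matrix ι ι F} (ha : RB φ U a M)
    (hb : RB φ U b M) (ha' : a < 2 ^ (d * d)) (hb' : b < 2 ^ (d * d)) : a = b := by
  apply ext_fld h.pos
  intro i
  by_cases hi : i < d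
  · rw [← rowC_eq, ← rowC_eq]
    apply h.vecOf_inj (rowC_lt _ _ _) (rowC_lt _ _ _)
    exact (vecOf_rowC ha ⟨i, hi⟩).trans (vecOf_rowC hb ⟨i, hi⟩).symm
  · rw [fld_of_lt ha' (by omega), fld_of_lt hb' (by omega)]

theorem Blow.mul_lt (h : Blow φ U) (a b : ℕ) : mulSq2 d a b < 2 ^ (d * d) := mul2_lt h.pos a b

/-- vector keys: `vmul d x` is constant on right cosets of the stabiliser of `vecOf x` -/
theorem Blow.vkey (h : Blow φ U) {G : Type*} [Group G] {ρ : G →* Matrix ι ι F} {a b : ℕ}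
    {g g' : G} (ha : RB φ U a (ρ g)) (hb : RB φ U b (ρ g')) {x : ℕ}
    (e : g * g'⁻¹ ∈ vstab ρ (vecOf φ U x)) : vmul d x a = vmul d x b := by
  apply h.vecOf_inj (vmul_lt h.pos _ _) (vmul_lt h.pos _ _)
  rw [h.vecOf_vmul ha, h.vecOf_vmul hb, vecMul_eq_of_vstab e]

theorem Blow.rkey (h : Blow φ U) {G : Type*} [Group G] {ρ : G →* Matrix ι ι F} {a b : ℕ}
    {g g' : G} (ha : RB φ U a (ρ g)) (hb : RB φ U b (ρ g')) {i : Fin d}
    (e : g * g'⁻¹ ∈ vstab ρ (U i)) : rowC d a i = rowC d b i := by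
  apply h.vecOf_inj (rowC_lt _ _ _) (rowC_lt _ _ _)
  rw [vecOf_rowC ha, vecOf_rowC hb, vecMul_eq_of_vstab e]

theorem Blow.mem_vstab (h : Blow φ U) {G : Type*} [Group G] {ρ : G →* Matrix ι ι F} {a : ℕ}
    {g : G} (ha : RB φ U a (ρ g)) {x : ℕ} (e : Nat.beq (vmul d x a) x = true) :
    g ∈ vstab ρ (vecOf φ U x) := by
  rw [CGM.mem_vstab, ← h.vecOf_vmul ha, Nat.eq_of_beq_eq_true e]

theorem Blow.vecOf_W (h : Blow φ U) {W : ℕ} {ω : F} (hW : RB φ U W (ω • (1 : Matrix ι ι F)))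
    (x : ℕ) : vecOf φ U (vmul d x W) = ω • vecOf φ U x := by
  rw [h.vecOf_vmul hW, vecMul_smul, vecMul_one]

theorem Blow.lkey_W (h : Blow φ U) {W : ℕ} {ω : F} (hW : RB φ U W (ω • (1 : Matrix ι ι F)))
    (h3 : ω ^ 3 = 1) {u : ℕ} (hu : u < 2 ^ d) : lkey d W (vmul d u W) = lkey d W u := by
  have e : vmul d (vmul d (vmul d u W) W) W = u := by
    apply h.vecOf_inj (vmul_lt h.pos _ _) hu
    rw [h.vecOf_W hW, h.vecOf_W hW, h.vecOf_W hW, smul_smul, smul_smul, ← pow_three', h3, one_smul]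
  simp only [lkey, nmin_eq, e]
  omega

theorem Blow.lkey_eq (h : Blow φ U) {W : ℕ} {ω : F} (hW : RB φ U W (ω • (1 : Matrix ι ι F)))
    (h3 : ω ^ 3 = 1) (hF : ∀ c : F, c ≠ 0 → c = 1 ∨ c = ω ∨ c = ω ^ 2) {u v : ℕ} (hu : u < 2 ^ d)
    (hv : v < 2 ^ d) {c : F} (hc : c ≠ 0) (e : vecOf φ U u = c • vecOf φ U v) :
    lkey d W u = lkey d W v := by
  rcases hF c hc with rfl | rfl | rfl
  · rw [one_smul] at e
    rw [h.vecOf_inj hu hv e]
  · rw [← h.vecOf_W hW] at e
    rw [h.vecOf_inj hu (vmul_lt h.pos _ _) e, h.lkey_W hW h3 hv]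
  · rw [pow_two, ← smul_smul, ← h.vecOf_W hW, ← h.vecOf_W hW] at e
    rw [h.vecOf_inj hu (vmul_lt h.pos _ _) e, h.lkey_W hW h3 (vmul_lt h.pos _ _),
      h.lkey_W hW h3 hv]

theorem Blow.vecOf_lkey (h : Blow φ U) {W : ℕ} {ω : F} (hW : RB φ U W (ω • (1 : Matrix ι ι F)))
    (h3 : ω ^ 3 = 1) (u : ℕ) : ∃ c : F, c ≠ 0 ∧ vecOf φ U (lkey d W u) = c • vecOf φ U u := by
  have h0 : ω ≠ 0 := by rintro rfl; simp at h3
  simp only [lkey, nmin_eq]
  rcases min_choice u (min (vmul d u W) (vmul d (vmul d u W) W)) with e | e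
  · exact ⟨1, one_ne_zero, by rw [e, one_smul]⟩
  rcases min_choice (vmul d u W) (vmul d (vmul d u W) W) with e' | e'
  · exact ⟨ω, h0, by rw [e, e', h.vecOf_W hW]⟩
  · exact ⟨ω * ω, mul_ne_zero h0 h0, by rw [e, e', h.vecOf_W hW, h.vecOf_W hW, smul_smul]⟩

theorem Blow.smul_of_lkey_eq (h : Blow φ U) {W : ℕ} {ω : F}
    (hW : RB φ U W (ω • (1 : Matrix ι ι F))) (h3 : ω ^ 3 = 1) {u v : ℕ}
    (e : lkey d W u = lkey d W v) : ∃ c : F, c ≠ 0 ∧ vecOf φ U u = c • vecOf φ U v := by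
  obtain ⟨a, ha, h1⟩ := h.vecOf_lkey hW h3 u
  obtain ⟨b, hb, h2⟩ := h.vecOf_lkey hW h3 v
  refine ⟨a⁻¹ * b, mul_ne_zero (inv_ne_zero ha) hb, ?_⟩
  rw [← smul_smul, ← h2, ← e, h1, smul_smul, inv_mul_cancel₀ ha, one_smul]

/-- backward orbit certificate: `bf x = depth * ng + i`; the vector `x` is a root, or excluded,
or its image under the generator `gs i` has smaller depth -/
noncomputable def checkBack (d ng : ℕ) (gs bf : ℕ → ℕ) (ex : ℕ → Bool) (x : ℕ) : Bool :=
  bor (ex x) (Nat.ble (Nat.succ (Nat.div (bf (force (Nat.mod (bf x) ng)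
    (fun i => vmul d x (gs i)))) ng)) (Nat.div (bf x) ng))

theorem Blow.back (h : Blow φ U) {G : Type*} [Group G] {ρ : G →* Matrix ι ι F} {ng : ℕ}
    (hng : 0 < ng) {gs bf : ℕ → ℕ} {f : ℕ → G} (hgs : ∀ i < ng, RB φ U (gs i) (ρ (f i)))
    {ex : ℕ → Bool} (hc : ∀ x < 2 ^ d, checkBack d ng gs bf ex x = true) :
    ∀ x < 2 ^ d, ∃ g ∈ gen f ng, ∃ y < 2 ^ d, ex y = true ∧ vecOf φ U x ᵥ* ρ g = vecOf φ U y := by
  have key : ∀ n x, x < 2 ^ d → bf x / ng = n →
      ∃ g ∈ gen f ng, ∃ y < 2 ^ d, ex y = true ∧ vecOf φ U x ᵥ* ρ g = vecOf φ U y := by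
    intro n
    induction n using Nat.strong_induction_on with
    | _ n ih =>
      intro x hx hn
      rcases bor_eq_true.1 (hc x hx) with h1 | h1
      · exact ⟨1, one_mem _, x, hx, h1, by simp⟩
      · have h2 := lt_of_ble_succ h1
        rw [force_eq] at h2
        have h3 := Nat.mod_lt (bf x) hng
        obtain ⟨g, hg, y, hy, h4, h5⟩ := ih _ (hn ▸ h2) _ (vmul_lt h.pos x (gs (bf x % ng))) rfl
        refine ⟨f (bf x % ng) * g, mul_mem (mem_gen f h3) hg, y, hy, h4, ?_⟩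
        rw [map_mul, ← vecMul_vecMul, ← h.vecOf_vmul (hgs _ h3), h5]
  exact fun x hx => key _ x hx rfl

end Blow

/-- the trivial blow-up over `ZMod 2` -/
theorem blow_id {d : ℕ} (hd : 0 < d) :
    Blow (RingHom.id (ZMod 2)) (1 : Matrix (Fin d) (Fin d) (ZMod 2)) where
  pos := hd
  linv := ⟨1, Matrix.one_mul _⟩
  inj x hx := by rwa [vecMul_one] at hx

theorem RB_id {d c : ℕ} {M : Matrix (Fin d) (Fin d) (ZMod 2)} :
    RB (RingHom.id (ZMod 2)) (1 : Matrix (Fin d) (Fin d) (ZMod 2)) c M ↔ R2 d c M := by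
  rw [RB, R2, Matrix.mul_one, Matrix.one_mul]
  rfl

theorem IsRep.inv_of_pow {G : Type*} [Group G] {mul : ℕ → ℕ → ℕ} {one : ℕ} {R : ℕ → G → Prop}
    (h : IsRep mul one R) {a b : ℕ} {g : G} (ha : R a g) (k : ℕ)
    (e1 : Nat.beq (CGM.powC mul one a k) b = true) (e2 : Nat.beq (mul a b) one = true) :
    R b g⁻¹ := by
  have h1 := h.powC ha k
  rw [Nat.eq_of_beq_eq_true e1] at h1
  exact h.inv_of_mul ha h1 e2

/-! ### The action on the cosets of a subgroup -/

/-- A group acting faithfully on the cosets of a subgroup `M` of index `n + 1` is isomorphic to a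
transitive subgroup of `Perm (Fin (n + 1))` in which `M` is the stabiliser of `0`. -/
theorem exists_perm_rep {G : Type*} [Group G] (M : Subgroup G) (hM : M.normalCore = ⊥) {n : ℕ}
    [NeZero n] (hn : M.index = n) :
    ∃ (H : Subgroup (Equiv.Perm (Fin n))) (e : G ≃* H), MulAction.IsPretransitive H (Fin n) ∧
      (MulAction.stabilizer H (0 : Fin n)).comap e.toMonoidHom = M := by
  have hfin : Finite (G ⧸ M) := Nat.finite_of_card_ne_zero (by show M.index ≠ 0; rw [hn]; exact NeZero.ne n)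
  obtain ⟨b0⟩ : Nonempty (G ⧸ M ≃ Fin n) := ⟨Finite.equivFinOfCardEq hn⟩
  let b : G ⧸ M ≃ Fin n := b0.trans (Equiv.swap (b0 ((1 : G) : G ⧸ M)) 0)
  have hb : b ((1 : G) : G ⧸ M) = 0 := by simp [b]
  let ψ : G →* Equiv.Perm (Fin n) :=
    (b.permCongrHom : Equiv.Perm (G ⧸ M) ≃* _).toMonoidHom.comp (MulAction.toPermHom G (G ⧸ M))
  have hψ : ∀ g x, ψ g (b x) = b (g • x) := by
    intro g x; simp [ψ]
  have hinj : Function.Injective ψ := by
    apply (b.permCongrHom).injective.comp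
    rw [← MonoidHom.ker_eq_bot_iff, ← Subgroup.normalCore_eq_ker, hM]
  refine ⟨ψ.range, MonoidHom.ofInjective hinj, ⟨fun x y => ?_⟩, ?_⟩
  · obtain ⟨g, hg⟩ := MulAction.exists_smul_eq G (b.symm x) (b.symm y)
    refine ⟨⟨ψ g, g, rfl⟩, ?_⟩
    show ψ g x = y
    rw [← b.apply_symm_apply x, hψ, hg, b.apply_symm_apply]
  · ext g
    rw [Subgroup.mem_comap, MulAction.mem_stabilizer_iff]
    show ψ g 0 = 0 ↔ _
    rw [← hb, hψ, b.apply_eq_iff_eq]
    show ((g * 1 : G) : G ⧸ M) = ((1 : G) : G ⧸ M) ↔ _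
    rw [mul_one, QuotientGroup.eq, mul_one, inv_mem_iff]

theorem normalCore_eq_bot_of_simple {G : Type*} [Group G] [IsSimpleGroup G] {M : Subgroup G}
    (hM : M ≠ ⊤) : M.normalCore = ⊥ := by
  rcases (Subgroup.normalCore_normal M).eq_bot_or_eq_top with h | h
  · exact h
  · exact absurd (top_le_iff.1 (h ▸ M.normalCore_le)) hM

/-- the stabiliser in the permutation representation is isomorphic to `M` -/
theorem exists_perm_rep_of_simple {G : Type*} [Group G] [IsSimpleGroup G] (M : Subgroup G)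
    {n : ℕ} [NeZero n] (hn : M.index = n) (h1 : n ≠ 1) :
    ∃ (H : Subgroup (Equiv.Perm (Fin n))) (_ : G ≃* H), MulAction.IsPretransitive H (Fin n) ∧
      Nonempty (M ≃* MulAction.stabilizer H (0 : Fin n)) := by
  obtain ⟨H, e, h2, h3⟩ := exists_perm_rep M
    (normalCore_eq_bot_of_simple (fun h => h1 (by rw [← hn, h, Subgroup.index_top]))) hn
  refine ⟨H, e, h2, ⟨?_⟩⟩
  have h4 : M.map e.toMonoidHom = MulAction.stabilizer H (0 : Fin n) := by
    rw [← h3]
    exact Subgroup.map_comap_eq_self_of_surjective e.surjective _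
  exact (e.subgroupMap M).trans (MulEquiv.subgroupCongr h4)

end CGM
end CL
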